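import Groth.Agent.BlowPush22.Global
import Groth.Agent.QCoh.CokerQC
import Groth.Agent.Synt29.PnEuler
import Groth.Agent.Lib.DivisorExt

/-!
# Ideals making a module generated annihilate the cokernel of its relative counit
-/

set_option autoImplicit false
set_option linter.style.haveILetI false
set_option backward.isDefEq.respectTransparency false
set_option backward.isDefEq.respectTransparency.types false
set_option maxHeartbeats 800000

universe u

open CategoryTheory CategoryTheory.Limits AlgebraicGeometry TopologicalSpace Opposite

noncomputable section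

namespace Groth.Agent.BlowPush22

open Groth.Agent Groth.Agent.AModX

/-- If `I ⊗ V` is relatively generated, `I` kills the cokernel of the relative counit of `V`. -/
theorem ideal_smul_cokernel_counit {X Y : Scheme.{u}} (σ : X ⟶ Y) (I : X.IdealSheafData) (V : X.Modules)
    (hepi : Epi ((Scheme.Modules.pullbackPushforwardAdjunction σ).counit.app
      (CohB1.tensorMod V (ClSub.idealMod I))))
    (U : X.affineOpens)
    (q : (cokernel ((Scheme.Modules.pullbackPushforwardAdjunction σ).counit.app V)).presheaf.obj (op U.1))
    (a : Γ(X, U.1)) (ha : a ∈ I.ideal U) : a • q = 0 := by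
  let η := (Scheme.Modules.pullbackPushforwardAdjunction σ).counit
  let μ : CohB1.tensorMod V (ClSub.idealMod I) ⟶ V := DivisorExt.mulIdeal I V
  let π := cokernel.π (η.app V)
  have hz : μ ≫ π = 0 := by
    haveI := hepi
    refine (cancel_epi (η.app (CohB1.tensorMod V (ClSub.idealMod I)))).1 ?_
    rw [comp_zero, ← Category.assoc]
    refine (congrArg (· ≫ π) (η.naturality μ).symm).trans ?_
    exact (Category.assoc _ _ _).trans ((congrArg _ (cokernel.condition _)).trans comp_zero)
  obtain ⟨κ, hκ⟩ := OmegaLib.exists_of_mem I U a ha
  refine eq_of_locally _ _ fun x hx => ?_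
  obtain ⟨W, i, hxW, v, hv⟩ := QCoh.exists_local_preimage π (U := U.1) q hx
  refine ⟨W, i, hxW, ?_⟩
  rw [map_zero, res_smul]
  have h1 : μ.app W (QCoh.tmS V _ v (res (ClSub.idealMod I) i κ)) = resR i a • v := by
    refine (DivisorExt.mulIdeal_tmS I V v _).trans ?_
    congr 1
    rw [← hκ]
    exact OmegaLib.idealSect_map I i κ
  have h2 := congr(($hz).app W (QCoh.tmS V _ v (res (ClSub.idealMod I) i κ)))
  have h3 : π.app W (resR i a • v) = 0 := by rw [← h1]; exact h2
  have h4 : π.app W (resR i a • v) = resR i a • π.app W v := π.app_smul _ _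
  have h5 : π.app W v = res _ i q := hv
  rw [← h5, ← h4, h3]

end Groth.Agent.BlowPush22

end
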