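import Groth.Agent.QCoh.GodLoc
import Groth.Agent.QCoh.SubCompare
import Groth.Agent.Lib.AVTraceRetract
import Groth.Agent.H28.BlowHH
import Groth.Agent.AModX.Res

/-!
# Cohomology on an open and closed piece
-/

set_option autoImplicit false
set_option linter.style.haveILetI false
set_option backward.isDefEq.respectTransparency false
set_option backward.isDefEq.respectTransparency.types false
set_option maxHeartbeats 800000

universe u

open CategoryTheory CategoryTheory.Limits AlgebraicGeometry TopologicalSpace Opposite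

noncomputable section

namespace Groth.Agent.BlowPush22

open Groth.Agent Groth.Agent.AModX

/-- Vanishing cohomology passes to open and closed pieces. -/
theorem subsingleton_HH_clopen {E : Scheme.{u}} (A B : E.Opens) (hAB : ∀ p, p ∈ A → p ∈ B → False)
    (hcov : ∀ p, p ∈ A ∨ p ∈ B) {M : E.Modules} (hM : Coh.IsQCoh M) (i : ℕ) (h : Subsingleton (Coh.HH E M i)) :
    Subsingleton (Coh.HH A.toScheme (M.restrict A.ι) i) := by
  haveI : IsClosedImmersion A.ι := IsClosedImmersion.of_isPreimmersion A.ι (by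
    rw [Scheme.Opens.range_ι]
    have : (A : Set E) = (B : Set E)ᶜ := Set.ext fun p => ⟨fun hA hB => hAB p hA hB, fun hB => (hcov p).resolve_right hB⟩
    rw [this]
    exact B.2.isClosed_compl)
  let u := (Scheme.Modules.restrictAdjunction A.ι).unit.app M
  let w := (Scheme.Modules.restrictAdjunction B.ι).unit.app M
  have hdis : ∀ O : E.Opens, (∀ p ∈ O, False) → Subsingleton Γ(M, O) := fun O hO =>
    ⟨fun p q => eq_of_locally _ _ fun z hz => (hO z hz).elim⟩
  have himg : ∀ (C O : E.Opens), C.ι ''ᵁ (C.ι ⁻¹ᵁ O) = C ⊓ O := fun C O => by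
    rw [Scheme.Hom.image_preimage_eq_opensRange_inf, Scheme.Opens.opensRange_ι]
  have glue : ∀ (O O₁ O₂ : E.Opens) (h₁ : O₁ ≤ O) (h₂ : O₂ ≤ O), O₁ = A ⊓ O → O₂ = B ⊓ O →
      ∀ (s : Γ(M, O₁)) (t : Γ(M, O₂)), ∃ T, res M h₁ T = s ∧ res M h₂ T = t := by
    rintro O _ _ h₁ h₂ rfl rfl s t
    exact QCoh.exists_glue_sup (le_antisymm (fun p hp => (hcov p).imp (fun h => ⟨h, hp⟩) fun h => ⟨h, hp⟩)
      (sup_le h₁ h₂)) h₁ h₂ s t ((hdis _ fun p (hp : p ∈ (A ⊓ O) ⊓ (B ⊓ O)) => hAB p hp.1.1 hp.2.1).elim _ _)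
  have inj : ∀ (O O₁ O₂ : E.Opens) (h₁ : O₁ ≤ O) (h₂ : O₂ ≤ O), O₁ = A ⊓ O → O₂ = B ⊓ O →
      ∀ (T : Γ(M, O)), res M h₁ T = 0 → res M h₂ T = 0 → T = 0 := by
    rintro O _ _ h₁ h₂ rfl rfl T hs ht
    refine eq_of_locally _ _ fun p hp => ?_
    rcases hcov p with hA | hB
    · exact ⟨_, h₁, ⟨hA, hp⟩, by rw [hs, map_zero]⟩
    · exact ⟨_, h₂, ⟨hB, hp⟩, by rw [ht, map_zero]⟩
  have hu : ∀ (O : E.Opens) (T : Γ(M, O)), u.app O T = res M (A.ι.image_preimage_le O) T := fun O T => by
    simp only [u, Scheme.Modules.restrictAdjunction_unit_app_app]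
    rfl
  have hw : ∀ (O : E.Opens) (T : Γ(M, O)), w.app O T = res M (B.ι.image_preimage_le O) T := fun O T => by
    simp only [w, Scheme.Modules.restrictAdjunction_unit_app_app]
    rfl
  haveI : Epi w := ⟨fun g g' e => by
    ext O s
    obtain ⟨T, -, hT⟩ := glue O _ _ (A.ι.image_preimage_le O) (B.ι.image_preimage_le O) (himg A O) (himg B O) 0 s
    have h2 : w.app O T = s := (hw O T).trans hT
    rw [← h2]
    exact congr(($e).app O T)⟩
  have hS : (ShortComplex.mk (kernel.ι w) w (kernel.condition w)).ShortExact :=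
    { exact := ShortComplex.exact_of_f_is_kernel _ (kernelIsKernel w) }
  haveI : IsIso (kernel.ι w ≫ u) := Scheme.Modules.Hom.isIso_iff_isIso_app.mpr fun O => by
    rw [ConcreteCategory.isIso_iff_bijective]
    refine ⟨(injective_iff_map_eq_zero _).2 fun z hz => ?_, fun s => ?_⟩
    · refine QCoh.app_injective (kernel.ι w) O ?_
      rw [map_zero]
      refine inj O _ _ (A.ι.image_preimage_le O) (B.ι.image_preimage_le O) (himg A O) (himg B O) _ ?_ ?_
      · exact (hu O _).symm.trans hz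
      · refine (hw O _).symm.trans ?_
        show (kernel.ι w ≫ w).app O z = 0
        rw [kernel.condition]
        rfl
    · obtain ⟨T, hT, hT'⟩ :=
        glue O _ _ (A.ι.image_preimage_le O) (B.ι.image_preimage_le O) (himg A O) (himg B O) s 0
      obtain ⟨z, hz⟩ := QCoh.exists_app_f_eq hS O T ((hw O T).trans hT')
      exact ⟨z, (congrArg (u.app O) hz).trans ((hu O T).trans hT)⟩
  have h1 : Subsingleton (Coh.HH E ((Scheme.Modules.pushforward A.ι).obj (M.restrict A.ι)) i) :=
    AVTraceRetract.subsingleton_HH_of_retract (inv (kernel.ι w ≫ u) ≫ kernel.ι w) u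
      (by rw [Category.assoc]; exact IsIso.inv_hom_id _) i h
  obtain ⟨e⟩ := QCoh.HH_push_of_isAffineHom A.ι (QCoh.isQCoh_restrict A.ι hM) i
  exact e.toEquiv.subsingleton_congr.2 h1

end Groth.Agent.BlowPush22

end
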