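import Groth.Agent.QCoh.LocFree
import Groth.Agent.Alg6.AssDepth
import Groth.Agent.CAlgOdd.AuslanderBuchsbaum
import Groth.Agent.RegLoc6.Serre
import Groth.Agent.LC.GorRows
import Groth.Agent.LC.GorHull
import Mathlib.RingTheory.Regular.Flat

/-!
# Free stalks from two regular functions
-/

set_option autoImplicit false
set_option linter.style.haveILetI false
set_option backward.isDefEq.respectTransparency false
set_option backward.isDefEq.respectTransparency.types false
set_option maxHeartbeats 800000

universe u

open CategoryTheory CategoryTheory.Limits AlgebraicGeometry TopologicalSpace Opposite RingTheory.Sequence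

noncomputable section

namespace Groth.Agent.BlowPush22

open Groth.Agent

/-- A module of the depth of a regular local ring is free. -/
theorem free_of_depth_le (R : Type u) [CommRing R] [IsRegularLocalRing R] (M : Type u) [AddCommGroup M] [Module R M]
    [Module.Finite R M] (h : LocCoh.depth R R ≤ LocCoh.depth R M) : Module.Free R M := by
  classical
  rcases subsingleton_or_nontrivial M with hM | hM
  · exact Module.Free.of_subsingleton R M
  have hex : ∃ e, RegLoc6.PdLE R e M := ⟨_, RegLoc6.pdLE_of_isRegularLocalRing R M⟩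
  have hAB := CAlgOdd.AB.depth_add_eq (Nat.find hex) M (Nat.find_spec hex) (fun e' he' => Nat.find_min hex he')
  obtain ⟨a, ha⟩ := LC.exists_depth_eq_nat (R := R) M
  rw [← hAB, ha] at h
  have hA : a + Nat.find hex ≤ a := by exact_mod_cast h
  have h0 := Nat.find_spec hex
  rw [show Nat.find hex = 0 by omega] at h0
  haveI : Module.Projective R M := RegLoc6.pdLE_zero_iff.1 h0
  exact Module.free_of_flat_of_isLocalRing

/-- A stalk over a regular local ring of depth two is free when two functions vanishing there form a regular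
sequence on the sections. -/
theorem free_stalk_of_relation {Y : Scheme.{u}} {M : Y.Modules} (hM : Coh.IsQCoh M) (hft : CohB1.IsFT M)
    {U : Y.Opens} (hU : IsAffineOpen U) {y : Y} (hy : y ∈ U) [IsRegularLocalRing (Y.presheaf.stalk y)]
    (hR : LocCoh.depth (Y.presheaf.stalk y) (Y.presheaf.stalk y) ≤ 2) (a c : Γ(Y, U))
    (hay : y ∉ Y.basicOpen a) (hcy : y ∉ Y.basicOpen c)
    (ha : ∀ v : Γ(M, U), a • v = 0 → v = 0)
    (hrel : ∀ v w : Γ(M, U), c • v = a • w → ∃ u, v = a • u) :
    Module.Free (Y.presheaf.stalk y) (M.presheaf.stalk y) := by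
  have hw : IsWeaklyRegular Γ(M, U) [a, c] := by
    rw [isWeaklyRegular_cons_iff, isWeaklyRegular_cons_iff]
    refine ⟨fun v v' h => sub_eq_zero.1 (ha _ ((smul_sub a v v').trans (sub_eq_zero.2 h))), ?_,
      IsWeaklyRegular.nil _ _⟩
    refine IsSMulRegular.of_right_eq_zero_of_smul fun q hq => ?_
    obtain ⟨v, rfl⟩ := Submodule.Quotient.mk_surjective _ q
    rw [← Submodule.Quotient.mk_smul, Submodule.Quotient.mk_eq_zero, Submodule.mem_smul_pointwise_iff_exists] at hq
    obtain ⟨w, -, hw⟩ := hq
    obtain ⟨u, rfl⟩ := hrel v w hw.symm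
    exact (Submodule.Quotient.mk_eq_zero _).2 (Submodule.smul_mem_pointwise_smul u a ⊤ trivial)
  letI := QCoh.stalkAlg (X := Y) hy
  letI := QCoh.stalkModule M hy
  haveI := QCoh.isScalarTower_stalk M hy
  haveI := QCoh.isLocalization_stalk' hU hy
  haveI := QCoh.isLocalizedModule_germLin hM hU hy
  haveI := QCoh.finite_stalk_of_isFT hM hft y
  have hw' := hw.of_isLocalizedModule (Y.presheaf.stalk y) (hU.primeIdealOf ⟨y, hy⟩).asIdeal.primeCompl
    (QCoh.germLin M hy)
  refine free_of_depth_le _ _ (hR.trans ?_)
  refine Alg6.length_le_idealDepth hw' fun r hr => ?_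
  have key : ∀ b : Γ(Y, U), y ∉ Y.basicOpen b →
      algebraMap Γ(Y, U) (Y.presheaf.stalk y) b ∈ IsLocalRing.maximalIdeal (Y.presheaf.stalk y) := fun b hb => by
    rw [IsLocalRing.mem_maximalIdeal]
    exact fun hu => hb ((Y.mem_basicOpen b y hy).2 hu)
  simp only [List.map_cons, List.map_nil, List.mem_cons, List.not_mem_nil, or_false] at hr
  rcases hr with rfl | rfl
  exacts [key a hay, key c hcy]

end Groth.Agent.BlowPush22

end
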