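import Groth.Agent.BlowPush22.Restrict
import Groth.Agent.PBlow.Main
import Groth.Agent.Synt29.PnEuler
import Groth.Agent.QCoh.SubCompare

/-!
# Dividing sections of a locally free module by the generators of a locally principal ideal
-/

set_option autoImplicit false
set_option linter.style.haveILetI false
set_option backward.isDefEq.respectTransparency false
set_option backward.isDefEq.respectTransparency.types false
set_option maxHeartbeats 800000

universe u

open CategoryTheory CategoryTheory.Limits AlgebraicGeometry TopologicalSpace Opposite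

noncomputable section

namespace Groth.Agent.BlowPush22

open Groth.Agent Groth.Agent.AModX

variable {X : Scheme.{u}} {U : X.Opens} [IsIntegral U.toScheme]

/-- Functions on the nonempty opens inside an integral open form domains. -/
theorem isDomain_of_le {W : X.Opens} (hW : W ≤ U) {x : X} (hx : x ∈ W) : IsDomain Γ(X, W) := by
  haveI : Nonempty W.toScheme := ⟨⟨x, hx⟩⟩
  haveI : IsIntegral W.toScheme := isIntegral_of_isOpenImmersion (X.homOfLE hW)
  exact W.topIso.commRingCatIsoToRingEquiv.symm.toMulEquiv.isDomain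

/-- Restriction of functions to nonempty opens inside an integral open is injective. -/
theorem resR_ne_zero {V W : X.Opens} (hV : V ≤ U) (i : W ≤ V) {r : Γ(X, V)} (hr : r ≠ 0) {x : X} (hx : x ∈ W) :
    resR i r ≠ 0 := by
  have h1 : U.ι ''ᵁ (U.ι ⁻¹ᵁ V) = V := by
    rw [Scheme.Hom.image_preimage_eq_opensRange_inf, Scheme.Opens.opensRange_ι]; exact inf_eq_right.2 hV
  have h2 : U.ι ''ᵁ (U.ι ⁻¹ᵁ W) = W := by
    rw [Scheme.Hom.image_preimage_eq_opensRange_inf, Scheme.Opens.opensRange_ι]; exact inf_eq_right.2 (i.trans hV)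
  haveI : Nonempty (U.ι ⁻¹ᵁ W : U.toScheme.Opens).toScheme := ⟨⟨⟨x, hV (i hx)⟩, hx⟩⟩
  intro h
  refine hr ?_
  have h3 : Function.Injective (resR (U.ι.image_mono ((Opens.map U.ι.base).monotone i))) :=
    map_injective_of_isIntegral U.toScheme (homOfLE ((Opens.map U.ι.base).monotone i))
  have h4 : resR h1.le r = 0 := h3 (by rw [resR_resR, map_zero, ← resR_resR i h2.le, h, map_zero])
  have h5 := congrArg (resR h1.ge) h4
  rwa [resR_resR, resR_self, map_zero] at h5

/-- Locally free modules are torsion-free on integral opens. -/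
theorem smul_eq_zero_of_lf {M : X.Modules} (hM : FlatMod.IsFinLocFree M) {O : X.Opens} (hO : O ≤ U)
    {r : Γ(X, O)} (hr : r ≠ 0) {m : Γ(M, O)} (h : r • m = 0) : m = 0 := by
  refine eq_of_locally _ _ fun x hx => ?_
  obtain ⟨V, n, hxV, ⟨e⟩⟩ := hM x
  obtain ⟨s, hs⟩ := H23.Frame.exists_frame e
  refine ⟨O ⊓ V, inf_le_left, ⟨hx, hxV⟩, ?_⟩
  let Φ := PBlow.frameEquiv hs (O ⊓ V) inf_le_right
  have h1 : resR (inf_le_left : O ⊓ V ≤ O) r • Φ.symm (res M inf_le_left m) = 0 := by
    rw [← map_smul, ← res_smul, h, map_zero, map_zero]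
  haveI := isDomain_of_le (W := O ⊓ V) (inf_le_left.trans hO) ⟨hx, hxV⟩
  have h2 : Φ.symm (res M inf_le_left m) = 0 := funext fun j =>
    (mul_eq_zero.1 (congrFun h1 j)).resolve_left (resR_ne_zero hO _ hr (show x ∈ O ⊓ V from ⟨hx, hxV⟩))
  rw [map_zero]
  exact Φ.symm.injective (h2.trans (map_zero _).symm)

theorem smul_left_cancel_of_lf {M : X.Modules} (hM : FlatMod.IsFinLocFree M) {O : X.Opens} (hO : O ≤ U)
    {r : Γ(X, O)} (hr : r ≠ 0) {m m' : Γ(M, O)} (h : r • m = r • m') : m = m' :=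
  sub_eq_zero.1 (smul_eq_zero_of_lf hM hO hr (by rw [smul_sub, h, sub_self]))

/-- Two sections in the proportion of the generators of a locally principal ideal are multiples of them. -/
theorem exists_common_divisor {N : X.Modules} (hN : FlatMod.IsFinLocFree N) (E : X.IdealSheafData)
    (hE : BlowUp.IsEffCartierIdeal E) (a c : Γ(X, U)) (ha : a ≠ 0)
    (hgen : ∀ (D : X.affineOpens) (h : D.1 ≤ U), E.ideal D = Ideal.span {resR h a, resR h c})
    (v w : Γ(N, U))
    (hv : ∀ (D : X.affineOpens) (h : D.1 ≤ U),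
      res N h v ∈ E.ideal D • (⊤ : Submodule Γ(X, D.1) Γ(N, D.1)))
    (hw : ∀ (D : X.affineOpens) (h : D.1 ≤ U),
      res N h w ∈ E.ideal D • (⊤ : Submodule Γ(X, D.1) Γ(N, D.1)))
    (h : c • v = a • w) : ∃ n : Γ(N, U), a • n = v ∧ c • n = w := by
  have loc : ∀ x : U, ∃ (D : X.affineOpens) (hD : D.1 ≤ U) (n : Γ(N, D.1)), x.1 ∈ D.1 ∧
      resR hD a • n = res N hD v ∧ resR hD c • n = res N hD w := fun x => by
    obtain ⟨D₀, hxD₀, e₀, -, hD₀e⟩ := hE x.1
    obtain ⟨g, hgle, hxg⟩ := D₀.2.exists_basicOpen_le (V := U ⊓ D₀.1) ⟨x.1, x.2, hxD₀⟩ hxD₀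
    let D : X.affineOpens := ⟨X.basicOpen g, D₀.2.basicOpen g⟩
    have hD : D.1 ≤ U := hgle.trans inf_le_left
    let e := resR (X.basicOpen_le g) e₀
    have hDe : E.ideal D = Ideal.span {e} := by
      rw [← E.map_ideal (U := D) (V := D₀) (X.basicOpen_le g), hD₀e, Ideal.map_span, Set.image_singleton]
      rfl
    haveI := isDomain_of_le (W := D.1) hD hxg
    have hsp := (hgen D hD).symm.trans hDe
    have he0 : e ≠ 0 := fun h0 => resR_ne_zero le_rfl hD ha hxg (by
      have := (hsp ▸ Ideal.subset_span (Set.mem_insert _ _) : resR hD a ∈ Ideal.span {e})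
      rwa [h0, Ideal.span_singleton_zero, Ideal.mem_bot] at this)
    have hvD := hv D hD
    have hwD := hw D hD
    rw [hDe, Submodule.ideal_span_singleton_smul, Submodule.mem_smul_pointwise_iff_exists] at hvD hwD
    obtain ⟨n₁, -, hn₁⟩ := hvD
    obtain ⟨n₂, -, hn₂⟩ := hwD
    obtain ⟨α, hα⟩ := Ideal.mem_span_singleton'.1 (hsp ▸ Ideal.subset_span (Set.mem_insert _ _) :
      resR hD a ∈ Ideal.span {e})
    obtain ⟨γ, hγ⟩ := Ideal.mem_span_singleton'.1 (hsp ▸ Ideal.subset_span (Set.mem_insert_of_mem _ rfl) :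
      resR hD c ∈ Ideal.span {e})
    obtain ⟨p, q, hpq⟩ := Ideal.mem_span_pair.1 (hsp.symm ▸ Ideal.mem_span_singleton_self e :
      e ∈ Ideal.span {resR hD a, resR hD c})
    have h1 : p * α + q * γ = 1 := mul_right_cancel₀ he0 (by
      rw [one_mul, add_mul, mul_assoc, mul_assoc, hα, hγ]; exact hpq)
    have h2 : γ • n₁ = α • n₂ := by
      refine smul_left_cancel_of_lf hN hD (mul_ne_zero he0 he0) ?_
      have h3 := congrArg (res N hD) h
      rw [res_smul, res_smul, ← hn₁, ← hn₂, ← hα, ← hγ, ← mul_smul, ← mul_smul] at h3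
      rw [← mul_smul, ← mul_smul]
      convert h3 using 2 <;> ring
    refine ⟨D, hD, p • n₁ + q • n₂, hxg, ?_, ?_⟩
    · have h4 : α • (p • n₁ + q • n₂) = n₁ := by
        rw [smul_add, ← mul_smul, ← mul_smul, mul_comm α q, mul_smul q α n₂, ← h2, ← mul_smul, ← add_smul,
          mul_comm α p, h1, one_smul]
      rw [← hα, mul_comm α e, mul_smul, h4]
      exact hn₁
    · have h4 : γ • (p • n₁ + q • n₂) = n₂ := by
        rw [smul_add, ← mul_smul, ← mul_smul, mul_comm γ p, mul_smul p γ n₁, h2, ← mul_smul, ← add_smul,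
          mul_comm γ q, h1, one_smul]
      rw [← hγ, mul_comm γ e, mul_smul, h4]
      exact hn₂
  choose D hD n hxD hna hnc using loc
  obtain ⟨t, ht, -⟩ := existsUnique_glue (M := N) (fun x : U => (D x).1) hD
    (fun x hx => ⟨⟨x, hx⟩, hxD ⟨x, hx⟩⟩) n (fun x y => by
      refine eq_of_locally _ _ fun z hz => ⟨_, le_rfl, hz, ?_⟩
      have hle : (D x).1 ⊓ (D y).1 ≤ U := inf_le_left.trans (hD x)
      refine smul_left_cancel_of_lf hN hle (resR_ne_zero le_rfl hle ha hz) ?_
      have hx := congrArg (res N (inf_le_left : (D x).1 ⊓ (D y).1 ≤ _)) (hna x)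
      have hy := congrArg (res N (inf_le_right : (D x).1 ⊓ (D y).1 ≤ _)) (hna y)
      rw [res_smul, resR_resR, res_res] at hx hy
      rw [res_self, res_self, hx, hy])
  refine ⟨t, ?_, ?_⟩
  · exact eq_of_locally _ _ fun z hz => ⟨_, hD ⟨z, hz⟩, hxD ⟨z, hz⟩, by rw [res_smul, ht ⟨z, hz⟩, hna]⟩
  · exact eq_of_locally _ _ fun z hz => ⟨_, hD ⟨z, hz⟩, hxD ⟨z, hz⟩, by rw [res_smul, ht ⟨z, hz⟩, hnc]⟩

/-- If the twist by the inverse ideal has no section on the divisor over an open, such sections are divisible. -/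
theorem exists_quot_of_relation [IsLocallyNoetherian X] {V L : X.Modules} (hV : FlatMod.IsFinLocFree V)
    (E : X.IdealSheafData) (hE : BlowUp.IsEffCartierIdeal E) (hL : ClSub.IsInverseOf L (ClSub.idealMod E))
    (h0 : Subsingleton Γ((Scheme.Modules.pullback E.subschemeι).obj (CohB1.tensorMod V L), E.subschemeι ⁻¹ᵁ U))
    (a c : Γ(X, U)) (ha : a ≠ 0)
    (hgen : ∀ (D : X.affineOpens) (h : D.1 ≤ U), E.ideal D = Ideal.span {resR h a, resR h c})
    (v w : Γ(V, U)) (h : c • v = a • w) : ∃ u : Γ(V, U), v = a • u := by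
  have hLi : PicF.IsInvertible L :=
    (CurveOnSurf.isInvertible_of_inverse (H26.IdealCl.isInvertible_idealMod hE) hL).1
  let N := CohB1.tensorMod V L
  have hN : FlatMod.IsFinLocFree N :=
    Synt29.PnEuler.isFinLocFree_tensorMod hV (H23.PullPush.isFinLocFree_of_isInvertible hLi)
  have he : Nonempty (CohB1.tensorMod N (ClSub.idealMod E) ≅ V) := by
    letI := H23.PicMul.clMonoid X
    refine H23.PicMul.cl_eq_iff.1 ?_
    have h1 : PicF.cl (CohB1.tensorMod L (ClSub.idealMod E)) = PicF.cl (Coh.structureModule X) :=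
      H23.PicMul.cl_eq_iff.2 hL
    rw [H23.PicMul.cl_tensor, H23.PicMul.cl_tensor, mul_assoc, ← H23.PicMul.cl_tensor, h1]
    exact mul_one _
  obtain ⟨e⟩ := he
  obtain ⟨f, w', hS⟩ := exists_res_ses E hN
  haveI := hS.mono_f
  let μ : V ⟶ N := e.inv ≫ f
  have hμ0 : μ ≫ resMap E N = 0 := by rw [Category.assoc, w', comp_zero]
  have hinj : Function.Injective (μ.app U) := by
    intro p q hpq
    have h1 : (e.inv.app U) p = (e.inv.app U) q := QCoh.app_injective f U hpq
    exact QCoh.app_injective e.inv U h1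
  have hmem : ∀ (z : Γ(V, U)) (D : X.affineOpens) (hD : D.1 ≤ U),
      res N hD (μ.app U z) ∈ E.ideal D • (⊤ : Submodule Γ(X, D.1) Γ(N, D.1)) := fun z D hD => by
    have h1 := ((QCoh.unit_app_closed E.subschemeι (QCoh.isQCoh_of_isFinLocFree hN) D.2).2
      (res N hD (μ.app U z))).1 (by
        refine (app_res (resMap E N) hD (μ.app U z)).trans ?_
        show res _ hD ((μ ≫ resMap E N).app U z) = 0
        rw [hμ0]
        exact map_zero _)
    rwa [Scheme.IdealSheafData.ker_subschemeι] at h1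
  obtain ⟨n, hn, -⟩ := exists_common_divisor hN E hE a c ha hgen (μ.app U v) (μ.app U w) (hmem v) (hmem w)
    (by rw [← μ.app_smul, ← μ.app_smul, h])
  have hn0 : (resMap E N).app U n = 0 :=
    Subsingleton.elim (α := Γ((Scheme.Modules.pullback E.subschemeι).obj N, E.subschemeι ⁻¹ᵁ U)) _ _
  obtain ⟨u', hu'⟩ := QCoh.exists_app_f_eq hS U n hn0
  refine ⟨e.hom.app U u', hinj ?_⟩
  rw [μ.app_smul]
  have h2 : μ.app U (e.hom.app U u') = n := by
    refine Eq.trans ?_ hu'
    show (e.hom ≫ e.inv ≫ f).app U u' = _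
    rw [Iso.hom_inv_id_assoc]
  rw [h2, hn]

end Groth.Agent.BlowPush22

end
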