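import Groth.Agent.BlowPush22.SurfCoh
import Groth.Agent.SheafHomX.Extra
import Groth.Agent.KFlatLib.Scheme.TorBCTensorMap
import Groth.Agent.RelPC17.DimOne

/-!
# Endomorphisms of a module trivial on the exceptional curves
-/

set_option autoImplicit false
set_option linter.style.haveILetI false
set_option backward.isDefEq.respectTransparency false
set_option backward.isDefEq.respectTransparency.types false
set_option maxHeartbeats 800000

universe u

open CategoryTheory CategoryTheory.Limits AlgebraicGeometry TopologicalSpace Opposite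

noncomputable section

namespace Groth.Agent.BlowPush22

open Groth.Agent

/-- The internal hom out of isomorphic modules. -/
def homCongr {X : Scheme.{u}} {M M' : X.Modules} (e : M ≅ M') : SheafHomX.hom M ≅ SheafHomX.hom M' :=
  ((SheafHomX.adj M).ofNatIsoLeft ((DCoh.tensorBi (X := X)).flip.mapIso e)).rightAdjointUniq (SheafHomX.adj M')

/-- The internal hom between free modules is free. -/
theorem nonempty_hom_free (X : Scheme.{u}) (a b : ℕ) :
    Nonempty ((SheafHomX.hom (FlatMod.freeMod X a)).obj (FlatMod.freeMod X b) ≅ FlatMod.freeMod X (a * b)) := by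
  let T : ULift.{u} (Fin a) → X.Modules := fun _ => Coh.structureModule X
  let g : FlatMod.freeMod X a ≅ ⨁ T := QCoh.freeModIso _ a ≪≫ (biproduct.isoCoproduct T).symm
  exact ⟨(homCongr g).app _ ≪≫ SheafHomX.homBiproductIso T _ ≪≫
    biproduct.mapIso (fun _ => (SheafHomX.unitIso _).app _) ≪≫
    biproduct.isoCoproduct _ ≪≫ Sigma.mapIso (fun _ => QCoh.freeModIso _ b) ≪≫
    sigmaSigmaIso (fun _ : ULift.{u} (Fin a) => ULift.{u} (Fin b)) (fun _ _ => Coh.structureModule X) ≪≫
    (Sigma.whiskerEquiv (f := fun _ : Σ _ : ULift.{u} (Fin a), ULift.{u} (Fin b) => Coh.structureModule X)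
      (g := fun _ : ULift.{u} (Fin (a * b)) => Coh.structureModule X)
      (((Equiv.sigmaEquivProd _ _).trans (Equiv.prodCongr Equiv.ulift Equiv.ulift)).trans (finProdFinEquiv.trans Equiv.ulift.symm))
      (fun _ => Iso.refl _)) ≪≫ (QCoh.freeModIso _ (a * b)).symm⟩

variable {k : Type u} [Field k] {X Y : Scheme.{u}} (f : Y ⟶ Spec (CommRingCat.of k)) [SmoothOfRelativeDimension 2 f]
  (σ : X ⟶ Y) (Z : Closeds Y) (hfin : (Z : Set Y).Finite) (hpts : ∀ z ∈ (Z : Set Y), IsClosed ({z} : Set Y))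
  (hσ : BlowUp.IsBlowUp σ (Scheme.IdealSheafData.vanishingIdeal Z))

/-- Trivial over neighbourhoods of the points of the centre. -/
def LocallyPulled (M : X.Modules) : Prop :=
  ∀ s ∈ (Z : Set Y), ∃ (W : Y.Opens) (m : ℕ), s ∈ W ∧
    Nonempty (M.restrict (σ ⁻¹ᵁ W).ι ≅ FlatMod.freeMod (σ ⁻¹ᵁ W : X.Opens) m)

include f hfin hpts hσ in
theorem locallyPulled_of_free {F : X.Modules} (hF : FlatMod.IsFinLocFree F) {r : ℕ}
    (he : Nonempty ((Scheme.Modules.pullback (BlowUp.exceptional σ (Scheme.IdealSheafData.vanishingIdeal Z)).subschemeι).obj F ≅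
      FlatMod.freeMod (BlowUp.exceptional σ (Scheme.IdealSheafData.vanishingIdeal Z)).subscheme r)) :
    LocallyPulled σ Z F := by
  intro s hs
  obtain ⟨W, V, hsW, hV, -, ⟨e⟩⟩ := exists_free_chart f σ Z hfin hpts hσ hF s
    (BlowUp.exceptional σ (Scheme.IdealSheafData.vanishingIdeal Z)) (fun _ _ => rfl) he
  haveI := isProper_sigma f σ Z hfin hpts hσ
  let W' : Y.Opens := W.1 ⊓ ⟨(σ '' (V : Set X)ᶜ)ᶜ, (σ.isClosedMap _ V.2.isClosed_compl).isOpen_compl⟩
  have hle : σ ⁻¹ᵁ W' ≤ V := fun y hy => by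
    by_contra hne
    exact hy.2 ⟨y, hne, rfl⟩
  refine ⟨W', r, ⟨hsW, ?_⟩, ⟨KFlatLib.restrictFreeIso hle e⟩⟩
  rintro ⟨y, hy, hxy⟩
  exact hy (hV y (hxy ▸ hsW) (hxy ▸ hs))

theorem locallyPulled_hom {F : X.Modules} (h : LocallyPulled σ Z F) :
    LocallyPulled σ Z ((SheafHomX.hom F).obj F) := by
  intro s hs
  obtain ⟨W, m, hsW, ⟨e⟩⟩ := h s hs
  obtain ⟨eh⟩ := nonempty_hom_free (σ ⁻¹ᵁ W).toScheme m m
  exact ⟨W, m * m, hsW, ⟨(SheafHomX.restrictIso (σ ⁻¹ᵁ W).ι F).app F ≪≫ (homCongr e).app _ ≪≫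
    (SheafHomX.hom _).mapIso e ≪≫ eh⟩⟩

variable {M : X.Modules} (hM : FlatMod.IsFinLocFree M) (hl : LocallyPulled σ Z M)

include f hpts hσ hM hl in
theorem isIso_counit_of_pulled : IsIso ((Scheme.Modules.pullbackPushforwardAdjunction σ).counit.app M) := by
  refine H23.ModLoc.isIso_of_locally _ fun x => ?_
  by_cases hx : σ x ∈ (Z : Set Y)
  · obtain ⟨W, m, hsW, ⟨e⟩⟩ := hl (σ x) hx
    refine ⟨σ ⁻¹ᵁ W, hsW, H23.PullPush.isIso_restrict_counit σ W M ?_⟩
    haveI := H23.PullPush.isIso_counit_pullback_of_isFinLocFree (σ ∣_ W)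
      (H23.PullPush.app_morphismRestrict_bijective σ (bijective_app_points f σ Z hpts hσ) W) _
      (isFinLocFree_free _ m)
    exact (NatTrans.isIso_app_iff_of_iso _ (e ≪≫ (KFlatLib.pullFreeIso (σ ∣_ W) m).symm).symm).1 inferInstance
  · let O : Y.Opens := (Scheme.IdealSheafData.vanishingIdeal Z).support.compl
    haveI : IsIso (σ ∣_ O) := BlowUpX.isIso_restrict hσ
    exact ⟨σ ⁻¹ᵁ O, hx, H23.PullPush.isIso_restrict_counit σ O M
      (isIso_counit_of_isIso (σ ∣_ O) (exists_mono_of_lf_restrict _ hM))⟩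

include f hpts hσ hM hl in
theorem lf_push_of_pulled : FlatMod.IsFinLocFree ((Scheme.Modules.pushforward σ).obj M) := by
  intro y
  by_cases hy : y ∈ (Z : Set Y)
  · obtain ⟨W, m, hsW, ⟨e⟩⟩ := hl y hy
    haveI := H23.PullPush.isIso_unit_of_isFinLocFree (σ ∣_ W)
      (H23.PullPush.app_morphismRestrict_bijective σ (bijective_app_points f σ Z hpts hσ) W) _
      (isFinLocFree_free _ m)
    exact ⟨W, m, hsW, ⟨asIso ((H23.PullPush.pushRestrict σ W).app M) ≪≫
      (Scheme.Modules.pushforward (σ ∣_ W)).mapIso (e ≪≫ (KFlatLib.pullFreeIso (σ ∣_ W) m).symm) ≪≫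
      (asIso ((Scheme.Modules.pullbackPushforwardAdjunction (σ ∣_ W)).unit.app (FlatMod.freeMod W m))).symm⟩⟩
  · let O : Y.Opens := (Scheme.IdealSheafData.vanishingIdeal Z).support.compl
    haveI : IsIso (σ ∣_ O) := BlowUpX.isIso_restrict hσ
    refine exists_free_of_restrict O (H23.PullPush.isFinLocFree_of_iso ?_
      (isFinLocFree_push_iso (σ ∣_ O) (exists_mono_of_lf_restrict (σ ⁻¹ᵁ O) hM))) (show y ∈ O from hy)
    exact (asIso ((H23.PullPush.pushRestrict σ O).app M)).symm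

omit hM hl in
include f hfin hpts hσ in
/-- Modules pulled back from the base have no higher direct images. -/
theorem isZero_RpushAb_pullback {H : Y.Modules} (hH : FlatMod.IsFinLocFree H) (p : ℕ) (hp : 1 ≤ p) :
    IsZero ((Coh.RpushAb σ p).obj (Coh.toAb ((Scheme.Modules.pullback σ).obj H))) := by
  haveI := isProper_sigma f σ Z hfin hpts hσ
  refine H28.RzCover.isZero_RpushAb_of_cover σ
    (QCoh.isQCoh_of_isFinLocFree (KFlatLib.isFinLocFree_pullback σ hH))
    {W | TwoGen (σ ∣_ (W : Y.affineOpens).1) ((Scheme.IdealSheafData.vanishingIdeal Z).comap W.1.ι)}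
    (fun y => ?_) (fun W hW q => ?_) p hp
  · obtain ⟨W, hy, -, hT⟩ := exists_chart f σ Z hfin hpts hσ y
    exact ⟨W, hT, hy⟩
  · have hT : TwoGen (σ ∣_ W.1) ((Scheme.IdealSheafData.vanishingIdeal Z).comap W.1.ι) := hW
    haveI : IsAffine W.1.toScheme := W.2
    let e := (H23.PullPush.pullRestrictIso σ W.1).app H
    have hHW : FlatMod.IsFinLocFree (H.restrict W.1.ι) := exists_mono_of_lf_restrict W.1 hH
    obtain ⟨ι, p', hp'⟩ := RelPC17.DimOne.exists_epi_pullback (σ ∣_ W.1) (QCoh.isQCoh_of_isFinLocFree hHW)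
    have hgg : Curv2.IsGloballyGenerated (((Scheme.Modules.pullback σ).obj H).restrict (σ ⁻¹ᵁ W.1).ι) :=
      BiRegQ.gg_of_iso e ⟨ι, p', hp'⟩
    have hq : Coh.IsQCoh (((Scheme.Modules.pullback σ).obj H).restrict (σ ⁻¹ᵁ W.1).ι) :=
      QCoh.isQCoh_of_isFinLocFree (exists_mono_of_lf_restrict _ (KFlatLib.isFinLocFree_pullback σ hH))
    rcases q with _ | q
    · exact hT.hh_one hq hgg
    · exact hT.hh_two hq (q + 1 + 1) (by omega)

omit hM hl in
/-- `σ^*(M ⊗ G) ≅ σ^*M ⊗ σ^*G`, natural in `M`. -/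
def pullTenIso (G : Y.Modules) : SheafHomX.ten G ⋙ Scheme.Modules.pullback σ ≅
    Scheme.Modules.pullback σ ⋙ SheafHomX.ten ((Scheme.Modules.pullback σ).obj G) :=
  NatIso.ofComponents (fun M => ((KFlatLib.pullTensorBiIso σ).app M).app G) fun {M M'} φ => by
    have h := congrArg (fun t => NatTrans.app t G) ((KFlatLib.pullTensorBiIso σ).hom.naturality φ)
    exact h

omit hM hl in
/-- Direct image of an internal hom out of an inverse image. -/
theorem nonempty_push_hom (G : Y.Modules) (N : X.Modules) :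
    Nonempty ((Scheme.Modules.pushforward σ).obj ((SheafHomX.hom ((Scheme.Modules.pullback σ).obj G)).obj N) ≅
      (SheafHomX.hom G).obj ((Scheme.Modules.pushforward σ).obj N)) := by
  let adj₁ := (Scheme.Modules.pullbackPushforwardAdjunction σ).comp (SheafHomX.adj ((Scheme.Modules.pullback σ).obj G))
  let adj₂ := ((SheafHomX.adj G).comp (Scheme.Modules.pullbackPushforwardAdjunction σ)).ofNatIsoLeft
    (pullTenIso σ G)
  exact ⟨(adj₁.rightAdjointUniq adj₂).app N⟩

end Groth.Agent.BlowPush22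

end
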