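import Groth.Agent.BlowPush22.Twists
import Groth.Agent.H28.BlowExact
import Groth.Agent.H28.PBCohBasis
import Groth.Agent.H28.PBPush
import Groth.Agent.AmpleVan.ThickPush
import Groth.Agent.QCoh.AnnIdeal
import Groth.Agent.QCoh.DevissageP
import Groth.Agent.QCoh.Support
import Groth.Agent.KFlatLib.Scheme.RpushCoherent
import Groth.Agent.GGDesc7.Main
import Groth.Agent.KFlatLib.Scheme.ProjModule
import Groth.Agent.H23.PullPush
import Groth.Agent.BiRegQ.Retract

/-!
# Restriction of locally free modules to a closed subscheme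
-/

set_option autoImplicit false
set_option linter.style.haveILetI false
set_option backward.isDefEq.respectTransparency false
set_option backward.isDefEq.respectTransparency.types false
set_option maxHeartbeats 800000

universe u

open CategoryTheory CategoryTheory.Limits AlgebraicGeometry TopologicalSpace Opposite

noncomputable section

namespace Groth.Agent.BlowPush22

open Groth.Agent

variable {X : Scheme.{u}} (I : X.IdealSheafData)

/-- The restriction map to the subscheme. -/
abbrev resMap (F : X.Modules) :
    F ⟶ (Scheme.Modules.pushforward I.subschemeι).obj ((Scheme.Modules.pullback I.subschemeι).obj F) :=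
  (Scheme.Modules.pullbackPushforwardAdjunction I.subschemeι).unit.app F

theorem isCoh_of_lf {Z : Scheme.{u}} [IsLocallyNoetherian Z] {M : Z.Modules} (hM : FlatMod.IsFinLocFree M) : Coh.IsCoh M :=
  QCoh.isCoh_iff_isFP.2 (QCoh.isFP_of_isFinLocFree hM)

variable [IsLocallyNoetherian X]

omit [IsLocallyNoetherian X] in
/-- Changing the terms of a short exact sequence. -/
theorem shortExact_replace {S : ShortComplex X.Modules} (hS : S.ShortExact) {F N : X.Modules} (eB : S.X₂ ≅ F)
    (eC : S.X₃ ≅ N) {g : F ⟶ N} (hg : eB.hom ≫ g = S.g ≫ eC.hom) :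
    ∃ (f : S.X₁ ⟶ F) (w : f ≫ g = 0), (ShortComplex.mk f g w).ShortExact := by
  have w : (S.f ≫ eB.hom) ≫ g = 0 := by rw [Category.assoc, hg, S.zero_assoc, zero_comp]
  exact ⟨S.f ≫ eB.hom, w,
    ShortComplex.shortExact_of_iso (ShortComplex.isoMk (S₁ := S) (S₂ := ShortComplex.mk _ g w) (Iso.refl _) eB eC (Category.id_comp _) hg) hS⟩

/-- A surjection onto the restriction is the restriction map up to an automorphism. -/
theorem exists_iso_resMap {F : X.Modules} (hF : FlatMod.IsFinLocFree F)
    (g : F ⟶ (Scheme.Modules.pushforward I.subschemeι).obj ((Scheme.Modules.pullback I.subschemeι).obj F)) [Epi g] :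
    ∃ u : (Scheme.Modules.pushforward I.subschemeι).obj ((Scheme.Modules.pullback I.subschemeι).obj F) ≅
      (Scheme.Modules.pushforward I.subschemeι).obj ((Scheme.Modules.pullback I.subschemeι).obj F),
      g ≫ u.hom = resMap I F := by
  let adj := Scheme.Modules.pullbackPushforwardAdjunction I.subschemeι
  let P := Scheme.Modules.pushforward I.subschemeι
  let g' := (adj.homEquiv _ _).symm g
  have hg : adj.unit.app F ≫ P.map g' = g :=
    (adj.homEquiv_unit _ _ g').symm.trans (Equiv.apply_symm_apply _ _)
  haveI : Epi g' := ⟨fun a b hab => by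
    haveI := AmpleVan.faithful_push I.subschemeι
    refine P.map_injective ((cancel_epi g).1 ?_)
    rw [← hg, Category.assoc, Category.assoc, ← Functor.map_comp, ← Functor.map_comp, hab]⟩
  haveI : IsLocallyNoetherian I.subscheme := LocallyOfFiniteType.isLocallyNoetherian I.subschemeι
  have hc := isCoh_of_lf (KFlatLib.isFinLocFree_pullback I.subschemeι hF)
  haveI : IsIso g' := H28.PBCohBasis.isIso_of_epi_coh g' hc hc ⟨Iso.refl _⟩
  refine ⟨P.mapIso (asIso g').symm, ?_⟩
  show g ≫ P.map (inv g') = adj.unit.app F
  rw [← hg, Category.assoc, ← Functor.map_comp, IsIso.hom_inv_id, CategoryTheory.Functor.map_id]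
  exact Category.comp_id _

omit [IsLocallyNoetherian X] in
/-- The restriction is the twist by the structure sheaf of the subscheme. -/
theorem nonempty_quot_iso {F : X.Modules} (hF : FlatMod.IsFinLocFree F) :
    Nonempty (CohB1.tensorMod F (ClSub.quotMod I) ≅
      (Scheme.Modules.pushforward I.subschemeι).obj ((Scheme.Modules.pullback I.subschemeι).obj F)) := by
  obtain ⟨eP⟩ := nonempty_pushPull I.subschemeι hF
  rw [Scheme.IdealSheafData.ker_subschemeι] at eP
  exact ⟨eP.symm⟩

/-- A short exact sequence ending in the restriction ends in the restriction map. -/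
theorem exists_ses_resMap {F : X.Modules} (hF : FlatMod.IsFinLocFree F) {S : ShortComplex X.Modules}
    (hS : S.ShortExact) (eB : S.X₂ ≅ F)
    (eC : S.X₃ ≅ (Scheme.Modules.pushforward I.subschemeι).obj ((Scheme.Modules.pullback I.subschemeι).obj F)) :
    ∃ (f : S.X₁ ⟶ F) (w : f ≫ resMap I F = 0), (ShortComplex.mk f (resMap I F) w).ShortExact := by
  haveI := hS.epi_g
  haveI : Epi (eB.inv ≫ S.g ≫ eC.hom) := inferInstance
  obtain ⟨u, hu⟩ := exists_iso_resMap I hF (eB.inv ≫ S.g ≫ eC.hom)
  refine shortExact_replace hS eB (eC ≪≫ u) ?_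
  rw [← hu, Category.assoc, Category.assoc, Iso.hom_inv_id_assoc]
  rfl

/-- `0 → F ⊗ I → F → F|Z → 0`. -/
theorem exists_res_ses {F : X.Modules} (hF : FlatMod.IsFinLocFree F) :
    ∃ (f : CohB1.tensorMod F (ClSub.idealMod I) ⟶ F) (w : f ≫ resMap I F = 0),
      (ShortComplex.mk f (resMap I F) w).ShortExact :=
  exists_ses_resMap I hF (H28.PBPush.shortExact_tens hF (DivisorExt.ideal_shortExact I))
    (H23.PicMul.unit F).some (nonempty_quot_iso I hF).some

omit [IsLocallyNoetherian X] in
/-- The direct image of a generated module along a closed immersion is generated. -/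
theorem gg_push {M : I.subscheme.Modules} (h : Curv2.IsGloballyGenerated M) :
    Curv2.IsGloballyGenerated ((Scheme.Modules.pushforward I.subschemeι).obj M) := by
  obtain ⟨κ, p, hp⟩ := h
  let P := Scheme.Modules.pushforward I.subschemeι
  haveI : PreservesColimitsOfSize.{u, u} P := ⟨fun {K} _ => KFlatLib.preservesColimitsOfShape_push I.subschemeι K⟩
  haveI : PreservesColimitsOfShape WalkingSpan P := KFlatLib.preservesColimitsOfShape_push I.subschemeι _
  let p' : (∐ fun _ : κ => Coh.structureModule I.subscheme) ⟶ M := p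
  haveI : Epi p' := hp
  haveI : Epi (P.map p') := P.map_epi p'
  let t : (∐ fun _ : κ => Coh.structureModule X) ⟶ ∐ fun _ : κ => P.obj (Coh.structureModule I.subscheme) :=
    Limits.Sigma.map fun _ => ClSub.toSubscheme I
  haveI : Epi (ClSub.toSubscheme I) := (DivisorExt.ideal_shortExact I).epi_g
  haveI : Epi t := ⟨fun a b hab => Sigma.hom_ext _ _ fun i => (cancel_epi (ClSub.toSubscheme I)).1 (by
    have h1 := Sigma.ι (fun _ : κ => Coh.structureModule X) i ≫= hab
    simpa [t] using h1)⟩
  exact ⟨κ, t ≫ (PreservesCoproduct.iso P _).inv ≫ P.map p',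
    inferInstanceAs (Epi (t ≫ (PreservesCoproduct.iso P _).inv ≫ P.map p'))⟩

/-- A map onto the restriction is onto near the subscheme. -/
theorem disjoint_support_cokernel {P F : X.Modules} (φ : P ⟶ F) (hP : Coh.IsQCoh P) (hF : Coh.IsCoh F)
    [Epi ((Scheme.Modules.pullback I.subschemeι).map φ)] :
    Disjoint (I.support : Set X) (CohB1.support (cokernel φ)) := by
  let Q := Scheme.Modules.pullback I.subschemeι
  haveI : PreservesColimitsOfShape WalkingParallelPair Q :=
    (Scheme.Modules.pullbackPushforwardAdjunction I.subschemeι).leftAdjoint_preservesColimits.preservesColimitsOfShape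
  have hz : IsZero (Q.obj (cokernel φ)) :=
    (isZero_cokernel_of_epi (Q.map φ)).of_iso (PreservesCokernel.iso Q φ)
  obtain ⟨hq, hft⟩ := QCoh.isCoh_cokernel hP hF φ
  refine Set.disjoint_left.2 fun x hx hxs => ?_
  obtain ⟨z, rfl⟩ : x ∈ Set.range I.subschemeι := by
    rw [Scheme.IdealSheafData.range_subschemeι]; exact hx
  have h1 := QCoh.support_pullback I.subschemeι hq hft
  rw [KFlatLib.support_eq_empty_of_zero hz] at h1
  exact (h1.ge hxs : z ∈ (∅ : Set I.subscheme))

end Groth.Agent.BlowPush22

end
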