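import Groth.Agent.BlowPush22.TwoGen
import Groth.Agent.BlowPush22.Restrict
import Groth.Agent.S10945
import Groth.Agent.AmpleX.CounitEpi
import Groth.Agent.SeesawX.Glue
import Groth.Agent.SeesawX.Basic
import Groth.Agent.H23.GrassFlag
import Groth.Agent.H26.FMod.ClosedMap

/-!
# Lifting from the exceptional divisor of a blow-up with two generators
-/

set_option autoImplicit false
set_option linter.style.haveILetI false
set_option backward.isDefEq.respectTransparency false
set_option backward.isDefEq.respectTransparency.types false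
set_option maxHeartbeats 800000

universe u

open CategoryTheory CategoryTheory.Limits AlgebraicGeometry TopologicalSpace Opposite

noncomputable section

namespace Groth.Agent.BlowPush22

open Groth.Agent

section General

variable {X : Scheme.{u}} (I : X.IdealSheafData)

/-- A family whose restriction generates gives a surjection onto the push-forward. -/
theorem epi_desc_push {κ : Type} [Finite κ] {M : I.subscheme.Modules} (m : κ → (Coh.structureModule I.subscheme ⟶ M))
    [Epi (Sigma.desc m)] :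
    Epi (Sigma.desc fun k => ClSub.toSubscheme I ≫ (Scheme.Modules.pushforward I.subschemeι).map (m k)) := by
  let P := Scheme.Modules.pushforward I.subschemeι
  haveI : PreservesColimitsOfShape (Discrete κ) P := KFlatLib.preservesColimitsOfShape_push I.subschemeι _
  haveI : PreservesColimitsOfShape WalkingSpan P := KFlatLib.preservesColimitsOfShape_push I.subschemeι _
  haveI : Epi (P.map (Sigma.desc m)) := P.map_epi _
  haveI : Epi (ClSub.toSubscheme I) := (DivisorExt.ideal_shortExact I).epi_g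
  refine ⟨fun a b hab => (cancel_epi (P.map (Sigma.desc m))).1
    ((isColimitOfPreserves P (colimit.isColimit (Discrete.functor fun _ : κ => Coh.structureModule I.subscheme))).hom_ext
      fun ⟨k⟩ => (cancel_epi (ClSub.toSubscheme I)).1 ?_)⟩
  have h1 := Sigma.ι (fun _ : κ => Coh.structureModule X) k ≫= hab
  simp only [Sigma.ι_desc_assoc, Category.assoc] at h1
  show ClSub.toSubscheme I ≫ P.map (Sigma.ι (fun _ : κ => Coh.structureModule I.subscheme) k) ≫ P.map (Sigma.desc m) ≫ a =
    ClSub.toSubscheme I ≫ P.map (Sigma.ι (fun _ : κ => Coh.structureModule I.subscheme) k) ≫ P.map (Sigma.desc m) ≫ b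
  rw [← Functor.map_comp_assoc, ← Functor.map_comp_assoc, Sigma.ι_desc]
  exact h1

/-- A map onto the restriction restricts to a surjection. -/
theorem epi_pullback_of_epi_resMap {P F : X.Modules} (φ : P ⟶ F) [Epi (φ ≫ resMap I F)] :
    Epi ((Scheme.Modules.pullback I.subschemeι).map φ) := ⟨fun a b hab => by
  haveI := AmpleVan.faithful_push I.subschemeι
  let adj := Scheme.Modules.pullbackPushforwardAdjunction I.subschemeι
  refine (Scheme.Modules.pushforward I.subschemeι).map_injective ((cancel_epi (φ ≫ resMap I F)).1 ?_)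
  have hn : φ ≫ resMap I F = resMap I P ≫ (Scheme.Modules.pushforward I.subschemeι).map
      ((Scheme.Modules.pullback I.subschemeι).map φ) := adj.unit.naturality φ
  rw [hn, Category.assoc, Category.assoc, ← Functor.map_comp, ← Functor.map_comp, hab]⟩

/-- A trivialisation pulls back. -/
theorem free_restrict_pullback {Z : Scheme.{u}} (f : Z ⟶ X) {F : X.Modules} {U : X.Opens} {m : ℕ}
    (e : F.restrict U.ι ≅ FlatMod.freeMod (↑U) m) :
    Nonempty (((Scheme.Modules.pullback f).obj F).restrict (f ⁻¹ᵁ U).ι ≅ FlatMod.freeMod (↑(f ⁻¹ᵁ U)) m) :=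
  ⟨((H23.PullPush.pullRestrictIso f U).app F).symm ≪≫ (Scheme.Modules.pullback (f ∣_ U)).mapIso e ≪≫
    KFlatLib.pullFreeIso _ m⟩

theorem isFinLocFreeOfRank_free (r : ℕ) : FlatMod.IsFinLocFreeOfRank r (FlatMod.freeMod X r) := fun _ =>
  ⟨⊤, trivial, ⟨QCoh.freeModRestrict _ _⟩⟩

variable [IsLocallyNoetherian X]

/-- A module free on a closed subscheme with liftable frame is free nearby. -/
theorem exists_free_near {F : X.Modules} (hF : FlatMod.IsFinLocFree F) {r : ℕ}
    (e : (Scheme.Modules.pullback I.subschemeι).obj F ≅ FlatMod.freeMod I.subscheme r)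
    (hs : Function.Surjective ((resMap I F).app ⊤)) :
    ∃ V : X.Opens, (I.support : Set X) ⊆ V ∧ Nonempty (F.restrict V.ι ≅ FlatMod.freeMod (↑V) r) := by
  classical
  let ι := I.subschemeι
  let e' : (∐ fun _ : Fin r => Coh.structureModule I.subscheme) ≅ (Scheme.Modules.pullback ι).obj F := e.symm
  let m : Fin r → (Coh.structureModule I.subscheme ⟶ (Scheme.Modules.pullback ι).obj F) := fun j =>
    Sigma.ι (fun _ : Fin r => Coh.structureModule I.subscheme) j ≫ e'.hom
  haveI : Epi (Sigma.desc m) := by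
    rw [show Sigma.desc m = e'.hom from Sigma.hom_ext _ _ fun j => by simp [m]]
    infer_instance
  haveI := epi_desc_push I m
  let c : Fin r → (Coh.structureModule X ⟶ (Scheme.Modules.pushforward ι).obj ((Scheme.Modules.pullback ι).obj F)) :=
    fun j => ClSub.toSubscheme I ≫ (Scheme.Modules.pushforward ι).map (m j)
  choose t ht using fun j => hs (InvX.one (c j))
  let φ : (∐ fun _ : Fin r => Coh.structureModule X) ⟶ F := Sigma.desc fun j => InvX.ofSect (t j)
  have hφ : φ ≫ resMap I F = Sigma.desc c := Sigma.hom_ext _ _ fun j => by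
    rw [Sigma.ι_desc_assoc, Sigma.ι_desc]
    exact S10945.hom_ext_top ((congrArg (fun z => (resMap I F).app ⊤ z) (InvX.one_ofSect (t j))).trans (ht j))
  haveI : Epi (φ ≫ resMap I F) := hφ ▸ (inferInstance : Epi (Sigma.desc c))
  haveI := epi_pullback_of_epi_resMap I φ
  have hfree : FlatMod.IsFinLocFreeOfRank r (∐ fun _ : Fin r => Coh.structureModule X) := isFinLocFreeOfRank_free r
  have hq : Coh.IsQCoh (∐ fun _ : Fin r => Coh.structureModule X) :=
    QCoh.isQCoh_of_isFinLocFree fun x => (hfree x).elim fun U h => ⟨U, r, h⟩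
  have hd := disjoint_support_cokernel I φ hq (isCoh_of_lf hF)
  obtain ⟨hcq, hcft⟩ := QCoh.isCoh_cokernel hq (isCoh_of_lf hF) φ
  let V₁ : X.Opens := ⟨(CohB1.support (cokernel φ))ᶜ, (QCoh.isClosed_support_of_isFT hcq hcft).isOpen_compl⟩
  let V₀ : X.Opens := sSup {U : X.Opens | Nonempty (F.restrict U.ι ≅ FlatMod.freeMod (↑U) r)}
  let V : X.Opens := V₀ ⊓ V₁
  refine ⟨V, fun x hx => ⟨?_, Set.disjoint_left.1 hd hx⟩, ?_⟩
  · obtain ⟨U, n, hxU, ⟨eU⟩⟩ := hF x
    obtain ⟨z, rfl⟩ : x ∈ Set.range ι := by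
      rw [Scheme.IdealSheafData.range_subschemeι]; exact hx
    obtain ⟨eZ⟩ := free_restrict_pullback ι eU
    let e₂ : FlatMod.freeMod (↑(ι ⁻¹ᵁ U)) n ≅ FlatMod.freeMod (↑(ι ⁻¹ᵁ U)) r :=
      eZ.symm ≪≫ (Scheme.Modules.restrictFunctor (ι ⁻¹ᵁ U).ι).mapIso e ≪≫ QCoh.freeModRestrict _ _
    obtain rfl : n = r := SeesawX.rank_unique (⟨z, hxU⟩ : (ι ⁻¹ᵁ U).toScheme)
      (M := FlatMod.freeMod (↑(ι ⁻¹ᵁ U)) n) (isFinLocFreeOfRank_free n)
      (fun _ => ⟨⊤, trivial, ⟨(Scheme.Modules.restrictFunctor _).mapIso e₂ ≪≫ QCoh.freeModRestrict _ _⟩⟩)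
    exact Opens.mem_sSup.2 ⟨U, ⟨eU⟩, hxU⟩
  · have hV : FlatMod.IsFinLocFreeOfRank r ((Scheme.Modules.pullback V.ι).obj F) := fun y => by
      obtain ⟨U, ⟨eU⟩, hyU⟩ := Opens.mem_sSup.1 y.2.1
      exact ⟨V.ι ⁻¹ᵁ U, hyU, free_restrict_pullback V.ι eU⟩
    have hPV : FlatMod.IsFinLocFreeOfRank r
        ((Scheme.Modules.pullback V.ι).obj (∐ fun _ : Fin r => Coh.structureModule X)) :=
      H23.GrassFlag.rank_pullback V.ι hfree
    let Q := Scheme.Modules.pullback V.ι
    haveI : PreservesColimitsOfShape WalkingParallelPair Q :=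
      (Scheme.Modules.pullbackPushforwardAdjunction V.ι).leftAdjoint_preservesColimits.preservesColimitsOfShape
    have hz : IsZero (Q.obj (cokernel φ)) := by
      refine H26.FMod.isZero_of_support_eq_empty ?_
      rw [QCoh.support_pullback V.ι hcq hcft, Set.eq_empty_iff_forall_notMem]
      exact fun y hy => y.2.2 hy
    haveI : Epi (Q.map φ) := Abelian.epi_of_cokernel_π_eq_zero _
      ((hz.of_iso (PreservesCokernel.iso Q φ).symm).eq_of_tgt _ _)
    haveI := SeesawX.isIso_of_epi_rank hPV hV (Q.map φ)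
    exact ⟨(Scheme.Modules.restrictFunctorIsoPullback V.ι).app F ≪≫ (asIso (Q.map φ)).symm ≪≫
      KFlatLib.pullFreeIso V.ι r⟩

end General

namespace TwoGen

variable {X Y : Scheme.{u}} {σ : X ⟶ Y} {C : Y.IdealSheafData} (h : TwoGen σ C)

include h

/-- One step of the descending induction. -/
theorem gg_step {G : X.Modules} (hG : FlatMod.IsFinLocFree G)
    (hg : Curv2.IsGloballyGenerated ((Scheme.Modules.pullback (BlowUp.exceptional σ C).subschemeι).obj G))
    (h₁ : Curv2.IsGloballyGenerated (CohB1.tensorMod G (ClSub.idealMod (BlowUp.exceptional σ C)))) :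
    Curv2.IsGloballyGenerated G := by
  haveI := h.isLocallyNoetherian
  obtain ⟨f, w, hS⟩ := exists_res_ses (BlowUp.exceptional σ C) hG
  have hq₁ : Coh.IsQCoh (CohB1.tensorMod G (ClSub.idealMod (BlowUp.exceptional σ C))) :=
    QCoh.isQCoh_of_isFinLocFree
      (KFlatLib.isFinLocFree_tensor hG (H23.PullPush.isFinLocFree_of_isInvertible h.isInvertible))
  exact S10945.result X _ hS (QCoh.app_top_surjective_of_HH_one hS (h.hh_one hq₁ h₁)) h₁
    (gg_push (BlowUp.exceptional σ C) hg)

/-- Modules generated on the exceptional divisor are generated. -/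
theorem gg {F : X.Modules} (hF : FlatMod.IsFinLocFree F)
    (hg : Curv2.IsGloballyGenerated ((Scheme.Modules.pullback (BlowUp.exceptional σ C).subschemeι).obj F)) :
    Curv2.IsGloballyGenerated F := by
  haveI := h.isLocallyNoetherian
  haveI := h.compactSpace
  haveI := h.isSeparated
  let E := BlowUp.exceptional σ C
  let L := ClSub.idealMod E
  let G : ℕ → X.Modules := fun n => CohB1.tensorMod F (CohB1.tensorPow L n)
  have hLn : ∀ n, FlatMod.IsFinLocFree (CohB1.tensorPow L n) := fun n =>
    H23.PullPush.isFinLocFree_of_isInvertible (InvX.isInvertible_tensorPow h.isInvertible n)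
  have hG : ∀ n, FlatMod.IsFinLocFree (G n) := fun n => KFlatLib.isFinLocFree_tensor hF (hLn n)
  have hGE : ∀ n, Curv2.IsGloballyGenerated ((Scheme.Modules.pullback E.subschemeι).obj (G n)) := fun n => by
    obtain ⟨ep⟩ := H23.PicMul.pull E.subschemeι F (CohB1.tensorPow L n)
    exact BiRegQ.gg_of_iso ep.symm (BiRegQ.gg_tensor hg (GGDesc7.pullback_gg _ (h.gg_pow n)))
  obtain ⟨n₁, hn₁⟩ := AmpleX.eventually_isGloballyGenerated h.isAmple (QCoh.isQCoh_of_isFinLocFree hF)
    (isCoh_of_lf hF).2
  suffices H : ∀ k n, n₁ ≤ n + k → Curv2.IsGloballyGenerated (G n) by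
    obtain ⟨eu⟩ := H23.PicMul.unit F
    exact BiRegQ.gg_of_iso eu (H n₁ 0 (by omega))
  intro k
  induction k with
  | zero => exact fun n hn => hn₁ n hn
  | succ k ih =>
    intro n hn
    obtain ⟨ea⟩ := H23.PicMul.assoc F (CohB1.tensorPow L n) L
    exact h.gg_step (hG n) (hGE n) (BiRegQ.gg_of_iso ea.symm (ih (n + 1) (by omega)))

/-- Modules generated on the exceptional divisor are acyclic. -/
theorem hh {F : X.Modules} (hF : FlatMod.IsFinLocFree F)
    (hg : Curv2.IsGloballyGenerated ((Scheme.Modules.pullback (BlowUp.exceptional σ C).subschemeι).obj F))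
    (p : ℕ) (hp : 1 ≤ p) : Subsingleton (Coh.HH X F p) := by
  rcases Nat.lt_or_ge p 2 with hp2 | hp2
  · obtain rfl : p = 1 := by omega
    exact h.hh_one (QCoh.isQCoh_of_isFinLocFree hF) (h.gg hF hg)
  · exact h.hh_two (QCoh.isQCoh_of_isFinLocFree hF) p hp2

/-- Sections lift from the exceptional divisor. -/
theorem res_surjective {F : X.Modules} (hF : FlatMod.IsFinLocFree F)
    (hg : Curv2.IsGloballyGenerated ((Scheme.Modules.pullback (BlowUp.exceptional σ C).subschemeι).obj F)) :
    Function.Surjective ((resMap (BlowUp.exceptional σ C) F).app ⊤) := by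
  haveI := h.isLocallyNoetherian
  obtain ⟨f, w, hS⟩ := exists_res_ses (BlowUp.exceptional σ C) hF
  refine QCoh.app_top_surjective_of_HH_one hS (h.hh_one ?_ (BiRegQ.gg_tensor (h.gg hF hg) h.gg_ideal))
  exact QCoh.isQCoh_of_isFinLocFree
    (KFlatLib.isFinLocFree_tensor hF (H23.PullPush.isFinLocFree_of_isInvertible h.isInvertible))

end TwoGen

end Groth.Agent.BlowPush22

end
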