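import Groth.Agent.BlowPush22.PointChart
import Groth.Agent.BlowPush22.Lift
import Groth.Agent.H23.PullPush
import Groth.Agent.H28.RzCover

/-!
# Locally free modules on the blow-up of finitely many points of a smooth surface
-/

set_option autoImplicit false
set_option linter.style.haveILetI false
set_option backward.isDefEq.respectTransparency false
set_option backward.isDefEq.respectTransparency.types false
set_option maxHeartbeats 800000

universe u

open CategoryTheory CategoryTheory.Limits AlgebraicGeometry TopologicalSpace Opposite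

noncomputable section

namespace Groth.Agent.BlowPush22

open Groth.Agent

/-- Vanishing ideals with the same trace on an open agree there. -/
theorem comap_vanishingIdeal_congr {X Y : Scheme.{u}} (j : X ⟶ Y) [IsOpenImmersion j] (Z Z' : Closeds Y)
    (h : j ⁻¹' (Z : Set Y) = j ⁻¹' (Z' : Set Y)) :
    (Scheme.IdealSheafData.vanishingIdeal Z).comap j = (Scheme.IdealSheafData.vanishingIdeal Z').comap j := by
  rw [RedComap5.comap_vanishingIdeal j Z (isReduced_of_isOpenImmersion (pullback.snd j _))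
      (Z.preimage j.continuous) rfl,
    RedComap5.comap_vanishingIdeal j Z' (isReduced_of_isOpenImmersion (pullback.snd j _))
      (Z.preimage j.continuous) h]

/-- The trace of a closed subscheme maps to it. -/
theorem exists_comap_map {X W : Scheme.{u}} (j : W ⟶ X) (J : X.IdealSheafData) {J' : W.IdealSheafData}
    (hJ : J' = J.comap j) : ∃ g : J'.subscheme ⟶ J.subscheme, g ≫ J.subschemeι = J'.subschemeι ≫ j := by
  subst hJ
  refine ⟨(J.comapIso j).hom ≫ pullback.snd j J.subschemeι, ?_⟩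
  rw [Category.assoc, ← pullback.condition, ← Category.assoc, Scheme.IdealSheafData.comapIso_hom_fst]

/-- Generation restricts. -/
theorem gg_restrict {X W : Scheme.{u}} (j : W ⟶ X) [IsOpenImmersion j] (J : X.IdealSheafData)
    {J' : W.IdealSheafData} (hJ : J' = J.comap j) {F : X.Modules}
    (hg : Curv2.IsGloballyGenerated ((Scheme.Modules.pullback J.subschemeι).obj F)) :
    Curv2.IsGloballyGenerated ((Scheme.Modules.pullback J'.subschemeι).obj (F.restrict j)) := by
  obtain ⟨g, hg'⟩ := exists_comap_map j J hJ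
  exact BiRegQ.gg_of_iso ((Scheme.Modules.pullbackComp g J.subschemeι).app F ≪≫
    (Scheme.Modules.pullbackCongr hg').app F ≪≫ ((Scheme.Modules.pullbackComp J'.subschemeι j).app F).symm ≪≫
    (Scheme.Modules.pullback J'.subschemeι).mapIso ((Scheme.Modules.restrictFunctorIsoPullback j).app F).symm)
    (GGDesc7.pullback_gg g hg)

/-- Triviality restricts. -/
theorem free_restrict {X W : Scheme.{u}} (j : W ⟶ X) [IsOpenImmersion j] (J : X.IdealSheafData)
    {J' : W.IdealSheafData} (hJ : J' = J.comap j) {F : X.Modules} {r : ℕ}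
    (he : Nonempty ((Scheme.Modules.pullback J.subschemeι).obj F ≅ FlatMod.freeMod J.subscheme r)) :
    Nonempty ((Scheme.Modules.pullback J'.subschemeι).obj (F.restrict j) ≅ FlatMod.freeMod J'.subscheme r) := by
  obtain ⟨g, hg'⟩ := exists_comap_map j J hJ
  obtain ⟨e⟩ := he
  exact ⟨(Scheme.Modules.pullback J'.subschemeι).mapIso ((Scheme.Modules.restrictFunctorIsoPullback j).app F) ≪≫
    (Scheme.Modules.pullbackComp J'.subschemeι j).app F ≪≫ ((Scheme.Modules.pullbackCongr hg').app F).symm ≪≫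
    ((Scheme.Modules.pullbackComp g J.subschemeι).app F).symm ≪≫ (Scheme.Modules.pullback g).mapIso e ≪≫
    KFlatLib.pullFreeIso g r⟩

theorem gg_free {X : Scheme.{u}} (r : ℕ) : Curv2.IsGloballyGenerated (FlatMod.freeMod X r) :=
  BiRegQ.gg_of_iso (Sigma.whiskerEquiv Equiv.ulift (fun _ => Iso.refl (Coh.structureModule X)))
    ⟨ULift.{u} (Fin r), 𝟙 _, inferInstance⟩

theorem exists_mono_of_lf_restrict {X : Scheme.{u}} (U : X.Opens) {F : X.Modules} (hF : FlatMod.IsFinLocFree F) :
    FlatMod.IsFinLocFree (F.restrict U.ι) :=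
  H23.PullPush.isFinLocFree_of_iso ((Scheme.Modules.restrictFunctorIsoPullback U.ι).app F).symm
    (KFlatLib.isFinLocFree_pullback U.ι hF)

/-- The counit of a module on the source of an isomorphism is an isomorphism. -/
theorem isIso_counit_of_isIso {A B : Scheme.{u}} (g : A ⟶ B) [IsIso g] {F : A.Modules}
    (hF : FlatMod.IsFinLocFree F) : IsIso ((Scheme.Modules.pullbackPushforwardAdjunction g).counit.app F) := by
  let M := (Scheme.Modules.pullback (inv g)).obj F
  have e : (Scheme.Modules.pullback g).obj M ≅ F := (Scheme.Modules.pullbackComp g (inv g)).app F ≪≫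
    (Scheme.Modules.pullbackCongr (IsIso.hom_inv_id g)).app F ≪≫ (Scheme.Modules.pullbackId A).app F
  haveI := H23.PullPush.isIso_counit_pullback_of_isFinLocFree g
    (fun U => ConcreteCategory.bijective_of_isIso (g.app U)) M (KFlatLib.isFinLocFree_pullback _ hF)
  exact (NatTrans.isIso_app_iff_of_iso _ e).1 this

variable {k : Type u} [Field k] {X Y : Scheme.{u}} (f : Y ⟶ Spec (CommRingCat.of k)) [SmoothOfRelativeDimension 2 f]
  (σ : X ⟶ Y) (Z : Closeds Y) (hfin : (Z : Set Y).Finite) (hpts : ∀ z ∈ (Z : Set Y), IsClosed ({z} : Set Y))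
  (hσ : BlowUp.IsBlowUp σ (Scheme.IdealSheafData.vanishingIdeal Z))

/-- A point together with the complement of the centre. -/
def sep (s : Y) : Y.Opens :=
  ⟨((Z : Set Y) \ {s})ᶜ, by
    rw [show ((Z : Set Y) \ {s}) = ⋃ z ∈ (Z : Set Y) \ {s}, {z} from (Set.biUnion_of_singleton _).symm]
    exact ((hfin.subset Set.sdiff_subset).isClosed_biUnion fun z hz => hpts z hz.1).isOpen_compl⟩

include f hfin hpts hσ in
/-- Every point has a chart with two generators. -/
theorem exists_chart (s : Y) :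
    ∃ W : Y.affineOpens, s ∈ W.1 ∧ ((Z : Set Y) ∩ W.1 ⊆ {s}) ∧
      TwoGen (σ ∣_ W.1) ((Scheme.IdealSheafData.vanishingIdeal Z).comap W.1.ι) := by
  let O := sep Z hfin hpts s
  have hO : s ∈ O := fun h => h.2 rfl
  have hOZ : (Z : Set Y) ∩ O ⊆ {s} := fun z hz => by
    by_contra hne
    exact hz.2 ⟨hz.1, hne⟩
  by_cases hs : s ∈ (Z : Set Y)
  · obtain ⟨W, hsW, hWO, hT⟩ := exists_twoGen f σ Z hσ O s hO (hpts s hs)
      (hOZ.antisymm (Set.singleton_subset_iff.2 ⟨hs, hO⟩))
    exact ⟨W, hsW, fun z hz => hOZ ⟨hz.1, hWO hz.2⟩, hT⟩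
  · haveI : Smooth f := SmoothOfRelativeDimension.smooth 2 f
    haveI : IsLocallyNoetherian Y := LocallyOfFiniteType.isLocallyNoetherian f
    obtain ⟨W₁, hsW₁, hW₁⟩ := exists_connected_affine s
    haveI := hW₁
    haveI : IsLocallyNoetherian W₁.1.toScheme := isLocallyNoetherian_of_isOpenImmersion W₁.1.ι
    haveI : IsIntegral W₁.1.toScheme := (S2280.result W₁.1.toScheme).2.2 ⟨inferInstance, fun y => by
      haveI := GrpSchLib.isRegularLocalRing_stalk_of_smooth (W₁.1.ι ≫ f) y
      exact RegLoc6.isDomain_of_isRegularLocalRing _⟩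
    obtain ⟨g, hgle, hsg⟩ := W₁.2.exists_basicOpen_le (V := Z.compl ⊓ W₁.1) ⟨s, hs, hsW₁⟩ hsW₁
    let W : Y.affineOpens := ⟨Y.basicOpen g, W₁.2.basicOpen g⟩
    haveI : Nonempty W.1.toScheme := ⟨⟨s, hsg⟩⟩
    haveI hint : IsIntegral W.1.toScheme := isIntegral_of_isOpenImmersion (Y.homOfLE (Y.basicOpen_le g))
    haveI : IsAffine W.1.toScheme := W.2
    have hdis : ∀ y ∈ W.1, y ∉ (Z : Set Y) := fun y hy => (hgle hy).1
    refine ⟨W, hsg, fun z hz => absurd hz.1 (hdis z hz.2), W.2, hint,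
      isLocallyNoetherian_of_isOpenImmersion W.1.ι,
      BlowUpLib.isBlowUp_of_isPullback (isPullback_morphismRestrict σ W.1) hσ,
      ⟨⊤, isAffineOpen_top _⟩, rfl, 1, 1, one_ne_zero, one_ne_zero, ?_⟩
    rw [Set.pair_eq_singleton, Ideal.span_singleton_one]
    refine BlowUpX.ideal_eq_top_of_disjoint _ _ fun y _ hy => ?_
    rw [Scheme.IdealSheafData.support_comap] at hy
    exact hdis y.1 y.2 (by simpa using hy)

theorem exceptional_restrict (W : Y.Opens) (C : Y.IdealSheafData) :
    BlowUp.exceptional (σ ∣_ W) (C.comap W.ι) = (C.comap σ).comap (σ ⁻¹ᵁ W).ι := by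
  show (C.comap W.ι).comap (σ ∣_ W) = _
  rw [← Scheme.IdealSheafData.comap_comp, ← Scheme.IdealSheafData.comap_comp, morphismRestrict_ι]

variable {F : X.Modules} (hF : FlatMod.IsFinLocFree F)
  (hg : Curv2.IsGloballyGenerated ((Scheme.Modules.pullback
    (BlowUp.exceptional σ (Scheme.IdealSheafData.vanishingIdeal Z)).subschemeι).obj F))

include f hfin hpts hσ in
theorem isProper_sigma : IsProper σ := by
  rw [IsZariskiLocalAtTarget.iff_of_iSup_eq_top (P := @IsProper)
    (fun s : Y => ((exists_chart f σ Z hfin hpts hσ s).choose.1 : Y.Opens))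
    (top_le_iff.1 fun y _ => Opens.mem_iSup.2 ⟨y, (exists_chart f σ Z hfin hpts hσ y).choose_spec.1⟩)]
  exact fun s => (exists_chart f σ Z hfin hpts hσ s).choose_spec.2.2.isProper

include hF hg in
theorem gg_chart {W : Y.affineOpens}
    (hT : TwoGen (σ ∣_ W.1) ((Scheme.IdealSheafData.vanishingIdeal Z).comap W.1.ι)) :
    Curv2.IsGloballyGenerated (F.restrict (σ ⁻¹ᵁ W.1).ι) :=
  hT.gg (exists_mono_of_lf_restrict _ hF) (gg_restrict _ _ (exceptional_restrict σ W.1 _) hg)

include f hfin hpts hσ hF hg in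
/-- Modules generated on the exceptional divisor have no higher direct images. -/
theorem isZero_RpushAb_of_gg (p : ℕ) (hp : 1 ≤ p) : IsZero ((Coh.RpushAb σ p).obj (Coh.toAb F)) := by
  haveI := isProper_sigma f σ Z hfin hpts hσ
  refine H28.RzCover.isZero_RpushAb_of_cover σ (QCoh.isQCoh_of_isFinLocFree hF)
    {W | TwoGen (σ ∣_ (W : Y.affineOpens).1) ((Scheme.IdealSheafData.vanishingIdeal Z).comap W.1.ι)}
    (fun y => ?_) (fun W hW q => ?_) p hp
  · obtain ⟨W, hy, -, hT⟩ := exists_chart f σ Z hfin hpts hσ y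
    exact ⟨W, hT, hy⟩
  · exact (hW : TwoGen _ _).hh (exists_mono_of_lf_restrict _ hF)
      (gg_restrict _ _ (exceptional_restrict σ W.1 _) hg) (q + 1) (by omega)

include f hfin hpts hσ hF hg in
/-- Modules generated on the exceptional divisor are relatively generated. -/
theorem epi_counit_of_gg : Epi ((Scheme.Modules.pullbackPushforwardAdjunction σ).counit.app F) := by
  let η := (Scheme.Modules.pullbackPushforwardAdjunction σ).counit.app F
  refine Preadditive.epi_of_isZero_cokernel η (H28.PBAtlas.isZero_of_restrict _ fun x => ?_)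
  obtain ⟨W, hxW, -, hT⟩ := exists_chart f σ Z hfin hpts hσ (σ x)
  refine ⟨σ ⁻¹ᵁ W.1, hxW, ?_⟩
  let R := Scheme.Modules.pullback (σ ⁻¹ᵁ W.1).ι
  haveI : PreservesColimitsOfShape WalkingParallelPair R :=
    (Scheme.Modules.pullbackPushforwardAdjunction (σ ⁻¹ᵁ W.1).ι).leftAdjoint_preservesColimits.preservesColimitsOfShape
  have hres : Epi ((Scheme.Modules.restrictFunctor (σ ⁻¹ᵁ W.1).ι).map η) := by
    haveI : Epi ((Scheme.Modules.pullbackPushforwardAdjunction (σ ∣_ W.1)).counit.app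
        ((Scheme.Modules.restrictFunctor (σ ⁻¹ᵁ W.1).ι).obj F)) :=
      AmpleX.epi_counit_of_isGloballyGenerated _ _ (gg_chart σ Z hF hg hT)
    have h1 := H23.PullPush.restrict_counit_eq σ W.1 F
    exact epi_of_epi_fac h1
  haveI : Epi (R.map η) := by
    haveI := hres
    have h2 := (Scheme.Modules.restrictFunctorIsoPullback (σ ⁻¹ᵁ W.1).ι).hom.naturality η
    exact epi_of_epi_fac h2.symm
  exact (isZero_cokernel_of_epi (R.map η)).of_iso (PreservesCokernel.iso R η)

include f hfin hpts hσ hF in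
/-- A module trivial on a part of the exceptional divisor is trivial nearby. -/
theorem exists_free_chart (s : Y) (J : X.IdealSheafData)
    (hJ : ∀ W : Y.Opens, (Z : Set Y) ∩ W ⊆ {s} → J.comap (σ ⁻¹ᵁ W).ι =
      ((Scheme.IdealSheafData.vanishingIdeal Z).comap σ).comap (σ ⁻¹ᵁ W).ι)
    {r : ℕ} (he : Nonempty ((Scheme.Modules.pullback J.subschemeι).obj F ≅ FlatMod.freeMod J.subscheme r)) :
    ∃ (W : Y.affineOpens) (V : X.Opens), s ∈ W.1 ∧
      (∀ x, σ x ∈ W.1 → σ x ∈ (Z : Set Y) → x ∈ V) ∧ V ≤ σ ⁻¹ᵁ W.1 ∧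
      Nonempty (F.restrict V.ι ≅ FlatMod.freeMod (↑V) r) := by
  obtain ⟨W, hsW, hWZ, hT⟩ := exists_chart f σ Z hfin hpts hσ s
  let U := σ ⁻¹ᵁ W.1
  have hJ' : BlowUp.exceptional (σ ∣_ W.1) ((Scheme.IdealSheafData.vanishingIdeal Z).comap W.1.ι) = J.comap U.ι :=
    (exceptional_restrict σ W.1 _).trans (hJ W.1 hWZ).symm
  obtain ⟨e⟩ := free_restrict U.ι J hJ' he
  have hgg : Curv2.IsGloballyGenerated ((Scheme.Modules.pullback
      (BlowUp.exceptional (σ ∣_ W.1) ((Scheme.IdealSheafData.vanishingIdeal Z).comap W.1.ι)).subschemeι).obj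
        (F.restrict U.ι)) := BiRegQ.gg_of_iso e.symm (gg_free r)
  haveI := hT.isLocallyNoetherian
  have hlf := exists_mono_of_lf_restrict U hF
  obtain ⟨V', hV', ⟨eV⟩⟩ := exists_free_near _ hlf e (hT.res_surjective hlf hgg)
  refine ⟨W, U.ι ''ᵁ V', hsW, fun x hxW hxZ => ⟨⟨x, hxW⟩, hV' ?_, rfl⟩, U.ι_image_le _, ⟨?_⟩⟩
  · simp only [BlowUp.exceptional, Scheme.IdealSheafData.support_comap]
    show W.1.ι ((σ ∣_ W.1) ⟨x, hxW⟩) ∈ (Z : Set Y)
    rwa [← Scheme.Hom.comp_apply, morphismRestrict_ι, Scheme.Hom.comp_apply]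
  · let j : (V' : U.toScheme.Opens).toScheme ⟶ X := V'.ι ≫ U.ι
    let φ : (U.ι ''ᵁ V').toScheme ≅ V'.toScheme := (U.ι.isoImage V').symm
    exact (Scheme.Modules.restrictFunctorIsoPullback _).app F ≪≫
      (Scheme.Modules.pullbackCongr (show (U.ι ''ᵁ V').ι = φ.hom ≫ V'.ι ≫ U.ι by simp [φ])).app F ≪≫
      ((Scheme.Modules.pullbackComp φ.hom (V'.ι ≫ U.ι)).app F).symm ≪≫
      (Scheme.Modules.pullback φ.hom).mapIso (((Scheme.Modules.pullbackComp V'.ι U.ι).app F).symm ≪≫
        (Scheme.Modules.pullback V'.ι).mapIso ((Scheme.Modules.restrictFunctorIsoPullback U.ι).app F).symm ≪≫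
        ((Scheme.Modules.restrictFunctorIsoPullback V'.ι).app _).symm ≪≫ eV) ≪≫ KFlatLib.pullFreeIso φ.hom r

end Groth.Agent.BlowPush22

end
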