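import Groth.Agent.BlowPush22.Global
import Groth.Agent.BlowPush22.Clopen
import Groth.Agent.RelPC17.DimOne

/-!
# Acyclicity from the exceptional divisor
-/

set_option autoImplicit false
set_option linter.style.haveILetI false
set_option backward.isDefEq.respectTransparency false
set_option backward.isDefEq.respectTransparency.types false
set_option maxHeartbeats 800000

universe u

open CategoryTheory CategoryTheory.Limits AlgebraicGeometry TopologicalSpace Opposite

noncomputable section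

namespace Groth.Agent.BlowPush22

open Groth.Agent

namespace TwoGen

variable {X Y : Scheme.{u}} {σ : X ⟶ Y} {C : Y.IdealSheafData} (h : TwoGen σ C)

include h

/-- Tensoring with a globally generated module preserves the vanishing of `H¹`. -/
theorem hh_one_tensor {L M : X.Modules} (hL : Curv2.IsGloballyGenerated L) (hM : Coh.IsQCoh M)
    (hLM : Coh.IsQCoh (CohB1.tensorMod L M)) (h₁ : Subsingleton (Coh.HH X M 1)) :
    Subsingleton (Coh.HH X (CohB1.tensorMod L M) 1) := by
  haveI := h.compactSpace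
  haveI := h.isSeparated
  haveI : QuasiSeparatedSpace X := inferInstance
  obtain ⟨ι, p, hp⟩ := hL
  let p' : (∐ fun _ : ι => Coh.structureModule X) ⟶ L := p
  haveI : Epi p' := hp
  let F := DCoh.tensorBi.flip.obj M
  let φ : F.obj (∐ fun _ : ι => Coh.structureModule X) ≅ ∐ fun _ : ι => M :=
    PreservesCoproduct.iso F _ ≪≫ Sigma.mapIso fun _ => CurveTensor.structureTensorIso M
  let q : (∐ fun _ : ι => M) ⟶ F.obj L := φ.inv ≫ F.map p'
  haveI : Epi q := inferInstanceAs (Epi (φ.inv ≫ F.map p'))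
  have hq : Coh.IsQCoh (∐ fun _ : ι => M) := H23.LocFinCoprod.isQCoh_coprod fun _ => hM
  have hS : (ShortComplex.mk (kernel.ι q) q (kernel.condition q)).ShortExact :=
    { exact := ShortComplex.exact_of_f_is_kernel _ (kernelIsKernel q) }
  exact LerayCorner.subsingleton_HH_X₃ hS 1 (RelPC17.DimOne.subsingleton_coprod (fun _ : ι => M) 1 fun _ => h₁)
    (h.hh_two (QCoh.isQCoh_kernel hq hLM q) 2 le_rfl)

/-- Acyclicity follows from that on the exceptional divisor. -/
theorem hh_of_h1 {F : X.Modules} (hF : FlatMod.IsFinLocFree F)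
    (h₁ : Subsingleton (Coh.HH X ((Scheme.Modules.pushforward (BlowUp.exceptional σ C).subschemeι).obj
      ((Scheme.Modules.pullback (BlowUp.exceptional σ C).subschemeι).obj F)) 1))
    (p : ℕ) (hp : 1 ≤ p) : Subsingleton (Coh.HH X F p) := by
  haveI := h.isLocallyNoetherian
  haveI := h.compactSpace
  haveI := h.isSeparated
  rcases Nat.lt_or_ge p 2 with hp2 | hp2
  swap
  · exact h.hh_two (QCoh.isQCoh_of_isFinLocFree hF) p hp2
  obtain rfl : p = 1 := by omega
  let E := BlowUp.exceptional σ C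
  let L := ClSub.idealMod E
  let G : ℕ → X.Modules := fun n => CohB1.tensorMod F (CohB1.tensorPow L n)
  let Q : ℕ → X.Modules := fun n =>
    (Scheme.Modules.pushforward E.subschemeι).obj ((Scheme.Modules.pullback E.subschemeι).obj (G n))
  have hG : ∀ n, FlatMod.IsFinLocFree (G n) := fun n => KFlatLib.isFinLocFree_tensor hF
    (H23.PullPush.isFinLocFree_of_isInvertible (InvX.isInvertible_tensorPow h.isInvertible n))
  have hQq : ∀ n, Coh.IsQCoh (Q n) := fun n => QCoh.isQCoh_pushforward E.subschemeι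
    (QCoh.isQCoh_pullback _ (QCoh.isQCoh_of_isFinLocFree (hG n)))
  have hQ : ∀ n, Subsingleton (Coh.HH X (Q n) 1) := by
    intro n
    induction n with
    | zero =>
      obtain ⟨eu⟩ := H23.PicMul.unit F
      exact QCoh.subsingleton_HH_of_iso ((Scheme.Modules.pushforward E.subschemeι).mapIso
        ((Scheme.Modules.pullback E.subschemeι).mapIso eu.symm)) 1 h₁
    | succ n ih =>
      obtain ⟨e₀⟩ := nonempty_quot_iso E (hG n)
      obtain ⟨e₁⟩ := nonempty_quot_iso E (hG (n + 1))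
      have hiso : Nonempty (CohB1.tensorMod L (Q n) ≅ Q (n + 1)) := by
        letI := H23.PicMul.clMonoid X
        refine H23.PicMul.cl_eq_iff.1 ?_
        rw [← H23.PicMul.cl_eq_iff.2 ⟨e₁⟩, H23.PicMul.cl_tensor, ← H23.PicMul.cl_eq_iff.2 ⟨e₀⟩,
          H23.PicMul.cl_tensor, H23.PicMul.cl_tensor, H23.PicMul.cl_tensor, H23.PicMul.cl_tensor,
          H23.PicMul.cl_tensorPow, H23.PicMul.cl_tensorPow, pow_succ]
        ac_rfl
      obtain ⟨e⟩ := hiso
      exact QCoh.subsingleton_HH_of_iso e 1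
        (h.hh_one_tensor h.gg_ideal (hQq n) ((QCoh.isQCoh_iff_iso e).2 (hQq (n + 1))) ih)
  obtain ⟨n₁, hn₁⟩ := h.exists_vanishing (isCoh_of_lf hF)
  suffices H : ∀ k n, n₁ ≤ n + k → Subsingleton (Coh.HH X (G n) 1) by
    obtain ⟨eu⟩ := H23.PicMul.unit F
    exact QCoh.subsingleton_HH_of_iso eu 1 (H n₁ 0 (by omega))
  intro k
  induction k with
  | zero => exact fun n hn => hn₁ n hn 0
  | succ k ih =>
    intro n hn
    obtain ⟨f, w, hS⟩ := exists_res_ses E (hG n)
    obtain ⟨ea⟩ := H23.PicMul.assoc F (CohB1.tensorPow L n) L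
    exact QCoh.subsingleton_HH_X₂ hS 1 (QCoh.subsingleton_HH_of_iso ea.symm 1 (ih (n + 1) (by omega))) (hQ n)

end TwoGen

variable {k : Type u} [Field k] {X Y : Scheme.{u}} (f : Y ⟶ Spec (CommRingCat.of k)) [SmoothOfRelativeDimension 2 f]
  (σ : X ⟶ Y) (Z : Closeds Y) (hfin : (Z : Set Y).Finite) (hpts : ∀ z ∈ (Z : Set Y), IsClosed ({z} : Set Y))
  (hσ : BlowUp.IsBlowUp σ (Scheme.IdealSheafData.vanishingIdeal Z))
  {F : X.Modules} (hF : FlatMod.IsFinLocFree F)

include hpts hF in
/-- The vanishing on the exceptional divisor gives it over a chart. -/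
theorem hh_one_chart {y : Y} {W : Y.affineOpens} (hyW : y ∈ W.1) (hWZ : (Z : Set Y) ∩ W.1 ⊆ {y})
    (h₁ : Subsingleton (Coh.HH (BlowUp.exceptional σ (Scheme.IdealSheafData.vanishingIdeal Z)).subscheme
      ((Scheme.Modules.pullback (BlowUp.exceptional σ (Scheme.IdealSheafData.vanishingIdeal Z)).subschemeι).obj F) 1)) :
    Subsingleton (Coh.HH (σ ⁻¹ᵁ W.1).toScheme ((Scheme.Modules.pushforward
      (BlowUp.exceptional (σ ∣_ W.1) ((Scheme.IdealSheafData.vanishingIdeal Z).comap W.1.ι)).subschemeι).obj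
      ((Scheme.Modules.pullback
        (BlowUp.exceptional (σ ∣_ W.1) ((Scheme.IdealSheafData.vanishingIdeal Z).comap W.1.ι)).subschemeι).obj
          (F.restrict (σ ⁻¹ᵁ W.1).ι))) 1) := by
  let E := BlowUp.exceptional σ (Scheme.IdealSheafData.vanishingIdeal Z)
  let E' := BlowUp.exceptional (σ ∣_ W.1) ((Scheme.IdealSheafData.vanishingIdeal Z).comap W.1.ι)
  let U := σ ⁻¹ᵁ W.1
  let A : E.subscheme.Opens := E.subschemeι ⁻¹ᵁ U
  have hZ : ∀ p : E.subscheme, σ (E.subschemeι p) ∈ (Z : Set Y) := fun p => by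
    have h := E.range_subschemeι.le ⟨p, rfl⟩
    simp only [E, BlowUp.exceptional, Scheme.IdealSheafData.support_comap] at h
    exact h
  have hA : Subsingleton (Coh.HH A.toScheme (((Scheme.Modules.pullback E.subschemeι).obj F).restrict A.ι) 1) := by
    by_cases hy : y ∈ (Z : Set Y)
    · let O : Y.Opens := ⟨{y}ᶜ, (hpts y hy).isOpen_compl⟩
      refine subsingleton_HH_clopen A (E.subschemeι ⁻¹ᵁ (σ ⁻¹ᵁ O))
        (fun p hp hp' => hp' (hWZ ⟨hZ p, hp⟩)) (fun p => ?_)
        (QCoh.isQCoh_pullback _ (QCoh.isQCoh_of_isFinLocFree hF)) 1 h₁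
      by_cases hp : σ (E.subschemeι p) = y
      · left
        show σ (E.subschemeι p) ∈ W.1
        rw [hp]; exact hyW
      · exact Or.inr hp
    · refine subsingleton_HH_clopen A ⊤ (fun p hp _ => hy ?_) (fun p => Or.inr trivial)
        (QCoh.isQCoh_pullback _ (QCoh.isQCoh_of_isFinLocFree hF)) 1 h₁
      rw [← Set.mem_singleton_iff.1 (hWZ ⟨hZ p, hp⟩)]
      exact hZ p
  have hE' : E' = E.comap U.ι := exceptional_restrict σ W.1 _
  have hpb : IsPullback (E.subschemeι ∣_ U) A.ι U.ι E.subschemeι := (isPullback_morphismRestrict E.subschemeι U)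
  let φ₀ : E'.subscheme ≅ (E.comap U.ι).subscheme := eqToIso (by rw [hE'])
  let φ : A.toScheme ⟶ E'.subscheme := hpb.isoPullback.hom ≫ (E.comapIso U.ι).inv ≫ φ₀.inv
  have hφ₀ : φ₀.inv ≫ E'.subschemeι = (E.comap U.ι).subschemeι := by
    have : ∀ (J J' : U.toScheme.IdealSheafData) (e : J = J') (h : J.subscheme = J'.subscheme),
        (eqToIso h).inv ≫ J.subschemeι = J'.subschemeι := by
      rintro J _ rfl h
      simp
    exact this _ _ hE' _
  have hφ : φ ≫ E'.subschemeι = E.subschemeι ∣_ U := by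
    simp only [φ, Category.assoc, hφ₀, Scheme.IdealSheafData.comapIso_inv_subschemeι]
    exact hpb.isoPullback_hom_fst
  haveI : IsIso φ := inferInstanceAs (IsIso (hpb.isoPullback.hom ≫ (E.comapIso U.ι).inv ≫ φ₀.inv))
  have hN : Coh.IsQCoh ((Scheme.Modules.pullback E'.subschemeι).obj (F.restrict U.ι)) :=
    QCoh.isQCoh_pullback _ (QCoh.isQCoh_of_isFinLocFree (exists_mono_of_lf_restrict U hF))
  have h2 : Subsingleton (Coh.HH E'.subscheme ((Scheme.Modules.pullback E'.subschemeι).obj (F.restrict U.ι)) 1) :=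
    H28.BlowHH.hh_iso φ hN 1 (QCoh.subsingleton_HH_of_iso
      (((H23.PullPush.pullRestrictIso E.subschemeι U).app F).symm ≪≫
        ((Scheme.Modules.pullbackCongr hφ).app _).symm ≪≫ ((Scheme.Modules.pullbackComp φ E'.subschemeι).app _).symm)
      1 hA)
  obtain ⟨e⟩ := QCoh.HH_push_of_isAffineHom E'.subschemeι hN 1
  exact e.symm.toEquiv.subsingleton

include f hfin hpts hσ hF in
/-- Vanishing of `H¹` on the exceptional divisor kills the higher direct images. -/
theorem isZero_RpushAb_of_h1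
    (h₁ : Subsingleton (Coh.HH (BlowUp.exceptional σ (Scheme.IdealSheafData.vanishingIdeal Z)).subscheme
      ((Scheme.Modules.pullback (BlowUp.exceptional σ (Scheme.IdealSheafData.vanishingIdeal Z)).subschemeι).obj F) 1))
    (p : ℕ) (hp : 1 ≤ p) : IsZero ((Coh.RpushAb σ p).obj (Coh.toAb F)) := by
  haveI := isProper_sigma f σ Z hfin hpts hσ
  refine H28.RzCover.isZero_RpushAb_of_cover σ (QCoh.isQCoh_of_isFinLocFree hF)
    {W | TwoGen (σ ∣_ (W : Y.affineOpens).1) ((Scheme.IdealSheafData.vanishingIdeal Z).comap W.1.ι) ∧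
      ∃ y ∈ W.1, (Z : Set Y) ∩ W.1 ⊆ {y}}
    (fun y => ?_) (fun W hW q => ?_) p hp
  · obtain ⟨W, hy, hWZ, hT⟩ := exists_chart f σ Z hfin hpts hσ y
    exact ⟨W, ⟨hT, y, hy, hWZ⟩, hy⟩
  · obtain ⟨hT, y, hy, hWZ⟩ := hW
    exact hT.hh_of_h1 (exists_mono_of_lf_restrict _ hF) (hh_one_chart σ Z hpts hF hy hWZ h₁) (q + 1) (by omega)

end Groth.Agent.BlowPush22

end
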