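import Groth.Agent.BlowPush22.Main
import Groth.Agent.H23.PullPush
import Groth.Agent.H23.LocNoethTop
import Groth.Agent.H28.BlowExact
import Groth.Agent.H28.RzCover
import Groth.Agent.H28.QProjEnough
import Groth.Agent.H28.PBSect
import Groth.Agent.BlowUpLib.Glue
import Groth.Agent.SchTop.ZeroDim
import Groth.Agent.S13313

/-!
# Locally free modules pushed forward from a blow-up in a regular centre
-/

set_option autoImplicit false
set_option linter.style.haveILetI false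
set_option backward.isDefEq.respectTransparency false
set_option backward.isDefEq.respectTransparency.types false
set_option maxHeartbeats 800000

universe u

open CategoryTheory CategoryTheory.Limits AlgebraicGeometry TopologicalSpace Opposite

noncomputable section

namespace Groth.Agent.BlowPush22

open Groth.Agent Groth.Agent.AModX

/-- Functions extend over a centre of depth at least two. -/
theorem bijective_app {X Y : Scheme.{u}} [IsLocallyNoetherian Y] (C : Y.IdealSheafData) (σ : X ⟶ Y)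
    (hσ : BlowUp.IsBlowUp σ C)
    (hC : ∀ y ∈ (C.support : Set Y), (2 : ℕ∞) ≤ LocCoh.depth (Y.presheaf.stalk y) (Y.presheaf.stalk y))
    (W : Y.Opens) : Function.Bijective (σ.app W) := by
  let U : Y.Opens := C.support.compl
  have hU : ∀ y : Y, y ∉ U → (2 : ℕ∞) ≤ LocCoh.depth (Y.presheaf.stalk y) (Y.presheaf.stalk y) :=
    fun y hy => hC y (not_not.1 hy)
  have hpre : σ ⁻¹ᵁ U = (C.comap σ).support.compl := by
    ext z
    show σ z ∉ (C.support : Set Y) ↔ z ∉ ((C.comap σ).support : Set X)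
    rw [Scheme.IdealSheafData.support_comap]
    rfl
  haveI := BlowUpX.isIso_restrict hσ
  haveI : IsIso (σ ∣_ (W ⊓ U)) := PointBlow.isIso_restrict_mono σ (inf_le_right : W ⊓ U ≤ U)
  have hbij := ExistEasy.bijective_app_of_isIso_restrict σ (D := W ⊓ U)
  have hle : σ ⁻¹ᵁ (W ⊓ U) ≤ σ ⁻¹ᵁ W := fun z hz => hz.1
  have hle' : σ ⁻¹ᵁ W ⊓ (C.comap σ).support.compl ≤ σ ⁻¹ᵁ (W ⊓ U) := fun z hz => ⟨hz.1, hpre.ge hz.2⟩
  have hinj : Function.Injective (resR hle : Γ(X, σ ⁻¹ᵁ W) → Γ(X, σ ⁻¹ᵁ (W ⊓ U))) := by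
    intro t t' htt
    refine res_injective_interior hσ.1 InvX.isInvertible_structureModule (σ ⁻¹ᵁ W) ?_
    have h2 := congrArg (res (Coh.structureModule X) hle') (htt : res (Coh.structureModule X) hle t = res _ hle t')
    exact ((res_res (M := Coh.structureModule X) hle hle' t).symm.trans h2).trans
      (res_res (M := Coh.structureModule X) hle hle' t')
  have happ : ∀ c : Γ(Y, W), resR hle (σ.app W c) = σ.app (W ⊓ U) (resR inf_le_left c) := fun c => by
    show (σ.app W ≫ X.presheaf.map _).hom c = (Y.presheaf.map _ ≫ σ.app (W ⊓ U)).hom c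
    rw [σ.naturality]
    rfl
  constructor
  · intro c c' hcc
    have h2 := congrArg (resR hle) hcc
    rw [happ, happ] at h2
    exact (Hartogs.restrict_bijective U hU W).1 (hbij.1 h2)
  · intro t
    obtain ⟨c₁, hc₁⟩ := hbij.2 (resR hle t)
    obtain ⟨c, hc⟩ := (Hartogs.restrict_bijective U hU W).2 c₁
    exact ⟨c, hinj ((happ c).trans ((congrArg (σ.app (W ⊓ U)) hc).trans hc₁))⟩

/-- A regular immersion is given by regular sequences near every point of every open. -/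
theorem local_data {S Y : Scheme.{u}} [IsLocallyNoetherian Y] (i : S ⟶ Y) (c : ℕ)
    (hi : RegImm.IsRegularImmersionOfCodim .regular c i) (W : Y.Opens) [IsClosedImmersion (i ∣_ W)]
    (z : (i ⁻¹ᵁ W).toScheme) :
    ∃ (V : W.toScheme.Opens) (hV : IsAffineOpen V) (_ : (i ∣_ W) z ∈ V) (rs : List Γ(W.toScheme, V)),
      rs.length = c ∧ RingTheory.Sequence.IsRegular Γ(W.toScheme, V) rs ∧
      (i ∣_ W).ker.ideal ⟨V, hV⟩ = Ideal.ofList rs := by
  obtain ⟨U, hzU, hcl, rs, hlen, hreg, hker⟩ := hi.2 z.1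
  haveI := hcl
  haveI : IsAffine (U.1 : Scheme.{u}) := U.2
  haveI : IsAffine ((i ⁻¹ᵁ U.1 : S.Opens) : Scheme.{u}) := isAffine_of_isAffineHom (i ∣_ U.1)
  have hiU : IsAffineOpen (i ⁻¹ᵁ U.1) := by assumption
  obtain ⟨g, hgle, hzg⟩ := U.2.exists_basicOpen_le (V := W ⊓ U.1) ⟨i z.1, z.2, hzU⟩ hzU
  let V : W.toScheme.Opens := W.ι ⁻¹ᵁ Y.basicOpen g
  have hV : W.ι ''ᵁ V = Y.basicOpen g := by
    rw [Scheme.Hom.image_preimage_eq_opensRange_inf, Scheme.Opens.opensRange_ι]
    exact inf_eq_right.mpr (hgle.trans inf_le_left)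
  have hVa : IsAffineOpen V :=
    (U.2.basicOpen g).preimage_of_isOpenImmersion W.ι (by rw [Scheme.Opens.opensRange_ι]; exact hgle.trans inf_le_left)
  have hmem : (i ∣_ W) z ∈ V := by
    show ((i ∣_ W) ≫ W.ι) z ∈ Y.basicOpen g
    rw [morphismRestrict_ι]
    exact hzg
  refine ⟨V, hVa, hmem, ?_⟩
  haveI := U.2.isLocalization_basicOpen g
  have key : ∀ (O : Y.Opens), O = Y.basicOpen g → ∃ rs' : List Γ(Y, O), rs'.length = c ∧
      RingTheory.Sequence.IsWeaklyRegular Γ(Y, O) rs' ∧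
      RingHom.ker (i.app O).hom = Ideal.ofList rs' := by
    rintro _ rfl
    refine ⟨rs.map (algebraMap Γ(Y, U.1) Γ(Y, Y.basicOpen g)), by rw [List.length_map, hlen],
      hreg.toIsWeaklyRegular.of_isLocalization _ (Submonoid.powers g), ?_⟩
    rw [S13313.ker_app_basicOpen i U.2 hiU g, hker, Ideal.map_ofList]
  obtain ⟨rs', hlen', hwr, hker'⟩ := key _ hV
  refine ⟨(show List Γ(W.toScheme, V) from rs'), hlen', ⟨hwr, ?_⟩, ?_⟩
  · rw [smul_eq_mul, Ideal.mul_top]
    show (⊤ : Ideal Γ(Y, W.ι ''ᵁ V)) ≠ Ideal.ofList rs'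
    rw [← hker']
    intro htop
    have h1 : (1 : Γ(S, i ⁻¹ᵁ (W.ι ''ᵁ V))) = 0 := by
      have : (1 : Γ(Y, W.ι ''ᵁ V)) ∈ RingHom.ker (i.app (W.ι ''ᵁ V)).hom := htop ▸ Submodule.mem_top
      rw [RingHom.mem_ker, map_one] at this
      exact this
    have hne : (z.1 : S) ∈ i ⁻¹ᵁ (W.ι ''ᵁ V) := by rw [hV]; exact hzg
    haveI : Nonempty (i ⁻¹ᵁ (W.ι ''ᵁ V) : S.Opens) := ⟨⟨z.1, hne⟩⟩
    exact one_ne_zero h1
  · rw [Scheme.Hom.ker_apply, morphismRestrict_app, CommRingCat.hom_comp,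
      RingHom.ker_comp_of_injective]
    · exact hker'
    · exact (ConcreteCategory.bijective_of_isIso (S.presheaf.map _)).1

/-- Connected affine neighbourhoods. -/
theorem exists_connected_affine {Y : Scheme.{u}} [IsLocallyNoetherian Y] (y : Y) :
    ∃ W : Y.affineOpens, y ∈ W.1 ∧ ConnectedSpace ↥W.1.toScheme := by
  obtain ⟨U, hU, hyU, -⟩ := exists_isAffineOpen_mem_and_subset (X := Y) (U := ⊤) (x := y) trivial
  haveI : IsAffine U.toScheme := hU
  haveI : IsNoetherianRing Γ(Y, U) := IsLocallyNoetherian.component_noetherian ⟨U, hU⟩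
  haveI : IsLocallyNoetherian U.toScheme := isLocallyNoetherian_of_isOpenImmersion U.ι
  haveI : AlgebraicGeometry.IsNoetherian U.toScheme := {}
  haveI : LocallyConnectedSpace ↥U.toScheme :=
    H23.LocNoethTop.locallyConnectedSpace fun x => ⟨Set.univ, Filter.univ_mem, inferInstance⟩
  let y' : U.toScheme := ⟨y, hyU⟩
  let K : U.toScheme.Opens := ⟨connectedComponent y', isOpen_connectedComponent⟩
  have hKa : IsAffineOpen K := by
    have h1 := SchTop.isAffineOpen_inf_of_isClopen (isAffineOpen_top U.toScheme) (V := K) isClopen_connectedComponent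
    rwa [top_inf_eq] at h1
  refine ⟨⟨U.ι ''ᵁ K, hKa.image_of_isOpenImmersion U.ι⟩, ⟨y', mem_connectedComponent, rfl⟩, ?_⟩
  refine isConnected_iff_connectedSpace.1 ?_
  exact isConnected_connectedComponent.image _ U.ι.continuous.continuousOn

/-- The structure sheaf is acyclic over connected affine opens. -/
theorem subsingleton_HH_preimage {S Y X : Scheme.{u}} [IsLocallyNoetherian Y] (i : S ⟶ Y) [IsClosedImmersion i]
    {d : ℕ} (hd : 1 ≤ d) (hi : RegImm.IsRegularImmersionOfCodim .regular d i)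
    (σ : X ⟶ Y) [IsProper σ] (hσ : BlowUp.IsBlowUp σ i.ker) (W : Y.affineOpens) [ConnectedSpace ↥W.1.toScheme] (q : ℕ) :
    Subsingleton (Coh.HH (σ ⁻¹ᵁ W.1).toScheme ((Coh.structureModule X).restrict (σ ⁻¹ᵁ W.1).ι) (q + 1)) := by
  haveI : IsAffine W.1.toScheme := W.2
  haveI : IsLocallyNoetherian W.1.toScheme := isLocallyNoetherian_of_isOpenImmersion W.1.ι
  haveI : AlgebraicGeometry.IsNoetherian W.1.toScheme := {}
  haveI : IsClosedImmersion (i ∣_ W.1) := IsZariskiLocalAtTarget.restrict ‹IsClosedImmersion i› W.1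
  haveI : IsProper (σ ∣_ W.1) := IsZariskiLocalAtTarget.restrict ‹IsProper σ› W.1
  have hreg : Mor2.IsRegularClosedImmersion (i ∣_ W.1) := ⟨inferInstance, fun z => by
    obtain ⟨V, hV, hz, rs, -, hr, hk⟩ := local_data i d hi W.1 z
    exact ⟨V, hV, hz, rs, hr, hk⟩⟩
  have hC : FlatMod.IsFinLocFreeOfRank d (Omega.conormal (i ∣_ W.1)) := S13313.rank_conormal_restrict i d hi W.1
  have hker : (i ∣_ W.1).ker = i.ker.comap W.1.ι := H28.TorPull.ker_eq (isPullback_morphismRestrict i W.1)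
  have hb : BlowUp.IsBlowUp (σ ∣_ W.1) (i ∣_ W.1).ker := by
    rw [hker]
    exact BlowUpLib.isBlowUp_of_isPullback (isPullback_morphismRestrict σ W.1) hσ
  have hrz : H28.RKoszul.RZ (σ ∣_ W.1) (Coh.structureModule (σ ⁻¹ᵁ W.1).toScheme) (q + 1) :=
    H28.BlowVan.van (H28.QProjEnough.enough_affine W.1.toScheme) (i ∣_ W.1) hreg hd hC (σ ∣_ W.1) hb 0 (q + 1) (by omega)
  have h1 := H28.BlowHH.hh_of_rz (σ ∣_ W.1) QCoh.isQCoh_structureModule q hrz (isAffineOpen_top W.1.toScheme)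
  haveI : IsIso ((σ ∣_ W.1) ⁻¹ᵁ (⊤ : W.1.toScheme.Opens)).ι := H28.BlowHH.isIso_ι_top _
  have h2 : Subsingleton (Coh.HH (σ ⁻¹ᵁ W.1).toScheme (Coh.structureModule (σ ⁻¹ᵁ W.1).toScheme) (q + 1)) :=
    H28.BlowHH.hh_iso ((σ ∣_ W.1) ⁻¹ᵁ (⊤ : W.1.toScheme.Opens)).ι QCoh.isQCoh_structureModule (q + 1)
      (QCoh.subsingleton_HH_of_iso ((Scheme.Modules.restrictFunctorIsoPullback _).app _) (q + 1) h1)
  obtain ⟨e⟩ := PicClLib.nonempty_pullback_structureModule (σ ⁻¹ᵁ W.1).ι
  exact QCoh.subsingleton_HH_of_iso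
    (((Scheme.Modules.restrictFunctorIsoPullback (σ ⁻¹ᵁ W.1).ι).app _ ≪≫ e).symm) (q + 1) h2

/-- Vanishing of the higher direct images. -/
theorem isZero_RpushAb {S Y X : Scheme.{u}} [IsLocallyNoetherian Y] (i : S ⟶ Y) [IsClosedImmersion i]
    {d : ℕ} (hd : 1 ≤ d) (hi : RegImm.IsRegularImmersionOfCodim .regular d i)
    (σ : X ⟶ Y) [IsProper σ] (hσ : BlowUp.IsBlowUp σ i.ker) (p : ℕ) (hp : 1 ≤ p) :
    IsZero ((Coh.RpushAb σ p).obj (Coh.toAb (Coh.structureModule X))) := by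
  refine H28.RzCover.isZero_RpushAb_of_cover σ QCoh.isQCoh_structureModule
    {W : Y.affineOpens | ConnectedSpace ↥W.1.toScheme} (fun y => ?_) (fun W hW q => ?_) p hp
  · obtain ⟨W, hy, hW⟩ := exists_connected_affine y
    exact ⟨W, hW, hy⟩
  · haveI : ConnectedSpace ↥W.1.toScheme := hW
    exact subsingleton_HH_preimage i hd hi σ hσ W q

end Groth.Agent.BlowPush22

end
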