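import Groth.Agent.H23.HartogsLine
import Groth.Agent.H23.DiagReg
import Groth.Agent.Alg6.AssDepth
import Groth.Agent.Lib.DivisorExt
import Groth.Agent.Lib.CurveOnSurf
import Groth.Agent.BlowUpX.Basic
import Groth.Agent.PointBlow.Main
import Groth.Agent.ExistEasy.PP.HatLemmas
import Groth.Agent.H28.Blow1.Sect
import Groth.Agent.S8914
import Groth.Prelude.Def_RegImm

/-!
# The direct image of the exceptional line bundle of a blow-up in a regular centre of codimension at least two
-/

set_option autoImplicit false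
set_option linter.style.haveILetI false
set_option backward.isDefEq.respectTransparency false
set_option backward.isDefEq.respectTransparency.types false
set_option maxHeartbeats 800000

universe u

open CategoryTheory CategoryTheory.Limits AlgebraicGeometry TopologicalSpace Opposite

noncomputable section

namespace Groth.Agent.BlowPush22

open Groth.Agent Groth.Agent.AModX

/-- The stalks along a regular immersion of codimension `d` have depth at least `d`. -/
theorem le_depth_of_regular {S Y : Scheme.{u}} [IsLocallyNoetherian Y] (i : S ⟶ Y) (d : ℕ)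
    (hi : RegImm.IsRegularImmersionOfCodim .regular d i) (z : S) :
    (d : ℕ∞) ≤ LocCoh.depth (Y.presheaf.stalk (i z)) (Y.presheaf.stalk (i z)) := by
  obtain ⟨U, hzU, hci, rs, rfl, hrs, hker⟩ := hi.2 z
  haveI := hci
  have hrs' : RingTheory.Sequence.IsRegular Γ(Y, U.1) rs := hrs
  obtain ⟨rs', hlen, hreg, hk⟩ := H23.DiagReg.exists_stalk_seq i U z hzU rs hrs'.toIsWeaklyRegular hker
  rw [← hlen]
  refine Alg6.length_le_idealDepth hreg.toIsWeaklyRegular fun r hr => ?_
  exact IsLocalRing.le_maximalIdeal (RingHom.ker_ne_top (i.stalkMap z).hom) (hk ▸ Ideal.subset_span hr)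

variable {X : Scheme.{u}} {E : X.IdealSheafData} {L : X.Modules}

/-- Sections of an invertible module are determined off an effective Cartier divisor. -/
theorem res_injective_interior (hE : BlowUp.IsEffCartierIdeal E) (hL : PicF.IsInvertible L)
    (V : X.Opens) : Function.Injective (res L (inf_le_left : V ⊓ E.support.compl ≤ V)) := by
  refine (injective_iff_map_eq_zero _).2 fun t ht => eq_of_locally _ _ fun p hp => ?_
  obtain ⟨V₁, hpV, e, he⟩ := InvX.exists_frame hL p
  obtain ⟨U, hpU, a, ha, hEU⟩ := hE p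
  obtain ⟨g, hgle, hpg⟩ := U.2.exists_basicOpen_le (V := V ⊓ V₁) ⟨p, hp, hpV⟩ hpU
  let D : X.affineOpens := ⟨X.basicOpen g, U.2.basicOpen g⟩
  have hDU : D.1 ≤ U.1 := X.basicOpen_le g
  have hDV : D.1 ≤ V := hgle.trans inf_le_left
  have hD1 : D.1 ≤ V₁ := hgle.trans inf_le_right
  refine ⟨D.1, hDV, hpg, ?_⟩
  obtain ⟨c, hc⟩ := he.exists_coord hD1 (res L hDV t)
  rw [map_zero, hc]
  suffices hc0 : c = 0 by rw [hc0, zero_smul]
  let a' := resR hDU a
  haveI := U.2.isLocalization_basicOpen g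
  have ha' : a' ∈ nonZeroDivisors Γ(X, D.1) := MeroX.nonZeroDivisors_map (Submonoid.powers g) ha
  have hbo : X.basicOpen a' ≤ E.support.compl := by
    intro y hy hyE
    have h1 := (Scheme.IdealSheafData.mem_support_iff_of_mem (U := D) (X.basicOpen_le a' hy)).1 hyE
    rw [Scheme.mem_zeroLocus_iff] at h1
    refine h1 a' ?_ hy
    rw [← E.map_ideal (U := D) (V := U) hDU, hEU]
    exact Ideal.mem_map_of_mem _ (Ideal.mem_span_singleton_self a)
  haveI := D.2.isLocalization_basicOpen a'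
  have hle : X.basicOpen a' ≤ V ⊓ E.support.compl := le_inf ((X.basicOpen_le a').trans hDV) hbo
  have h0 : resR (X.basicOpen_le a') c = 0 := by
    refine he.coord_unique ((X.basicOpen_le a').trans hD1) ?_
    rw [zero_smul]
    have h1 := congrArg (res L (X.basicOpen_le a')) hc
    rw [res_res, res_smul, res_res] at h1
    rw [← h1]
    have h2 := congrArg (res L hle) ht
    rw [res_res, map_zero] at h2
    exact h2
  obtain ⟨⟨k, n, rfl⟩, hk⟩ := (IsLocalization.map_eq_zero_iff (Submonoid.powers a')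
    Γ(X, X.basicOpen a') c).1 h0
  exact mem_nonZeroDivisors_iff_left.1 (pow_mem ha' n) _ hk

theorem exists_section (hE : BlowUp.IsEffCartierIdeal E) (hL : PicF.IsInvertible L)
    (h : ClSub.IsInverseOf L (ClSub.idealMod E)) :
    ∃ s : Γ(L, ⊤), InvX.IsFrame (res L (le_top : E.support.compl ≤ ⊤) s) := by
  obtain ⟨w⟩ := h
  let one : Γ(Coh.structureModule X, ⊤) := (1 : Γ(X, ⊤))
  refine ⟨(DivisorExt.mulIdeal E L).app ⊤ (w.inv.app ⊤ one), ?_⟩
  choose V hV e he using InvX.exists_frame hL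
  have hcov : ∀ p ∈ E.support.compl, ∃ (W : X.Opens) (hW : W ≤ E.support.compl), p ∈ W ∧
      InvX.IsFrame (res L hW (res L (le_top : E.support.compl ≤ ⊤)
        ((DivisorExt.mulIdeal E L).app ⊤ (w.inv.app ⊤ one)))) := by
    intro p hp
    obtain ⟨W, hW, hpW, hWle⟩ := exists_isAffineOpen_mem_and_subset (U := V p ⊓ E.support.compl) (x := p) ⟨hV p, hp⟩
    have hW1 : W ≤ V p := fun y hy => (hWle hy).1
    have hW2 : W ≤ E.support.compl := fun y hy => (hWle hy).2
    have htop : E.ideal ⟨W, hW⟩ = ⊤ := BlowUpX.ideal_eq_top_of_disjoint E ⟨W, hW⟩ fun y hy => hW2 hy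
    obtain ⟨κ, hκ⟩ := OmegaLib.exists_of_mem E ⟨W, hW⟩ 1 (htop ▸ Submodule.mem_top)
    have hκf : InvX.IsFrame κ := BlowP1.isFrame_of_generator hE ⟨W, hW⟩ (by rw [htop, hκ, Ideal.span_singleton_one])
    have hef := (he p).res hW1
    have htf := InvX.isFrame_tmul hef hκf
    have h1f : InvX.IsFrame (res (CohB1.tensorMod L (ClSub.idealMod E)) (le_top : W ≤ ⊤) (w.inv.app ⊤ one)) := by
      have h2 := ((InvX.isFrame_one (X := X) ⊤).map_iso w.symm).res (le_top : W ≤ ⊤)
      exact h2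
    obtain ⟨r, hr⟩ := htf.exists_coord le_rfl (res _ (le_top : W ≤ ⊤) (w.inv.app ⊤ one))
    rw [res_self] at hr
    have hru : IsUnit r := H28.Blow1.isUnit_of_frame htf (hr ▸ h1f)
    refine ⟨W, hW2, hpW, ?_⟩
    rw [res_res, ← app_res (DivisorExt.mulIdeal E L)]
    refine Eq.mpr (congrArg InvX.IsFrame ((congrArg ((DivisorExt.mulIdeal E L).app W) hr).trans
      ((Scheme.Modules.Hom.app_smul (DivisorExt.mulIdeal E L) r _).trans
        (congrArg (r • ·) ((DivisorExt.mulIdeal_tmS E L (res L hW1 (e p)) κ).trans ?_))))) (hef.isUnit_smul hru)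
    rw [hκ, one_smul]
  choose W hW hpW hWf using hcov
  exact InvUfdLib.isFrame_of_cover (fun p : E.support.compl => W p.1 p.2) (fun p => hW p.1 p.2)
    (fun p hp => ⟨⟨p, hp⟩, hpW p hp⟩) _ fun p => hWf p.1 p.2

/-- The direct image is the structure sheaf. -/
theorem nonempty_push {Y : Scheme.{u}} [IsLocallyNoetherian Y] (C : Y.IdealSheafData) (σ : X ⟶ Y)
    (hσ : BlowUp.IsBlowUp σ C)
    (hC : ∀ y ∈ (C.support : Set Y), (2 : ℕ∞) ≤ LocCoh.depth (Y.presheaf.stalk y) (Y.presheaf.stalk y))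
    (h : ClSub.IsInverseOf L (ClSub.idealMod (C.comap σ))) :
    Nonempty ((Scheme.Modules.pushforward σ).obj L ≅ Coh.structureModule Y) := by
  have hL : PicF.IsInvertible L := (CurveOnSurf.isInvertible_of_inverse ((S8914.result _).2 hσ.1) h).1
  obtain ⟨s, hs⟩ := exists_section hσ.1 hL h
  let U : Y.Opens := C.support.compl
  have hU : ∀ y : Y, y ∉ U → (2 : ℕ∞) ≤ LocCoh.depth (Y.presheaf.stalk y) (Y.presheaf.stalk y) :=
    fun y hy => hC y (not_not.1 hy)
  have hpre : σ ⁻¹ᵁ U = (C.comap σ).support.compl := by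
    ext z
    show σ z ∉ (C.support : Set Y) ↔ z ∉ ((C.comap σ).support : Set X)
    rw [Scheme.IdealSheafData.support_comap]
    rfl
  let φ : Coh.structureModule Y ⟶ (Scheme.Modules.pushforward σ).obj L :=
    InvX.ofSect (M := (Scheme.Modules.pushforward σ).obj L) s
  suffices IsIso φ from ⟨(asIso φ).symm⟩
  refine Scheme.Modules.Hom.isIso_iff_isIso_app.2 fun W => (ConcreteCategory.isIso_iff_bijective _).2 ?_
  have hφ : ∀ c : Γ(Y, W), φ.app W (show Γ(Coh.structureModule Y, W) from c) =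
      (σ.app W c • res L (le_top : σ ⁻¹ᵁ W ≤ ⊤) s : Γ(L, σ ⁻¹ᵁ W)) := fun c => by
    rw [InvX.app_eq_smul, InvX.one_ofSect]
    rfl
  haveI := BlowUpX.isIso_restrict hσ
  haveI : IsIso (σ ∣_ (W ⊓ U)) := PointBlow.isIso_restrict_mono σ (inf_le_right : W ⊓ U ≤ U)
  have hbij := ExistEasy.bijective_app_of_isIso_restrict σ (D := W ⊓ U)
  have hle : σ ⁻¹ᵁ (W ⊓ U) ≤ σ ⁻¹ᵁ W := fun z hz => hz.1
  have hinj : Function.Injective (res L hle) := by
    have := res_injective_interior hσ.1 hL (σ ⁻¹ᵁ W)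
    intro t t' htt
    refine this ?_
    have hle' : σ ⁻¹ᵁ W ⊓ (C.comap σ).support.compl ≤ σ ⁻¹ᵁ (W ⊓ U) := fun z hz => ⟨hz.1, hpre.ge hz.2⟩
    have h2 := congrArg (res L hle') htt
    rw [res_res, res_res] at h2
    exact h2
  have hleE : σ ⁻¹ᵁ (W ⊓ U) ≤ (C.comap σ).support.compl := fun z hz => hpre.le hz.2
  have hframe := hs.res hleE
  rw [res_res] at hframe
  have happ : ∀ c : Γ(Y, W), resR hle (σ.app W c) = σ.app (W ⊓ U) (resR inf_le_left c) := fun c => by
    show (σ.app W ≫ X.presheaf.map _).hom c = (Y.presheaf.map _ ≫ σ.app (W ⊓ U)).hom c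
    rw [σ.naturality]
    rfl
  constructor
  · intro c c' hcc
    have h1 := (hφ c).symm.trans (hcc.trans (hφ c'))
    have h2 := congrArg (res L hle) h1
    rw [res_smul, res_smul, res_res, happ, happ] at h2
    exact (Hartogs.restrict_bijective U hU W).1 (hbij.1 (hframe.coord_unique le_rfl (by rw [res_self]; exact h2)))
  · intro t
    obtain ⟨g, hg⟩ := hframe.exists_coord le_rfl (res L hle (show Γ(L, σ ⁻¹ᵁ W) from t))
    rw [res_self] at hg
    obtain ⟨c₁, hc₁⟩ := hbij.2 g
    obtain ⟨c, hc⟩ := (Hartogs.restrict_bijective U hU W).2 c₁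
    refine ⟨c, (hφ c).trans (hinj ?_)⟩
    rw [res_smul, res_res, happ, hg, ← hc₁]
    exact congrArg (fun z => σ.app (W ⊓ U) z • res L (le_top : σ ⁻¹ᵁ (W ⊓ U) ≤ ⊤) s) hc

end Groth.Agent.BlowPush22
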