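import Groth.Agent.BlowPush22.TwoGen
import Groth.Agent.BlowPush22.Higher
import Groth.Agent.DegMult16.Stalk
import Groth.Agent.RegLoc6.Basic
import Groth.Agent.GrpSchLib.SmoothRegular
import Groth.Agent.S2280
import Groth.Agent.RedComap5.Basic
import Groth.Agent.PBlow.Main
import Groth.Agent.LefPenLib.Bertini
import Groth.Agent.SchTop.Closed

/-!
# Charts with two generators around the closed points of a smooth surface
-/

set_option autoImplicit false
set_option linter.style.haveILetI false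
set_option backward.isDefEq.respectTransparency false
set_option backward.isDefEq.respectTransparency.types false
set_option maxHeartbeats 800000

universe u

open CategoryTheory CategoryTheory.Limits AlgebraicGeometry TopologicalSpace Opposite

noncomputable section

namespace Groth.Agent.BlowPush22

open Groth.Agent

/-- The maximal ideal of a point of codimension two of a regular integral scheme has two generators nearby. -/
theorem exists_two_gens {W : Scheme.{u}} [IsAffine W] [IsIntegral W] [IsLocallyNoetherian W] (s : W)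
    [IsRegularLocalRing (W.presheaf.stalk s)] (hdim : ringKrullDim (W.presheaf.stalk s) = 2)
    (hs : IsClosed ({s} : Set W)) :
    ∃ t : Γ(W, ⊤), s ∈ W.basicOpen t ∧ ∃ a c : Γ(W, W.basicOpen t), a ≠ 0 ∧ c ≠ 0 ∧
      (Scheme.IdealSheafData.vanishingIdeal ⟨{s}, hs⟩).ideal ⟨_, (isAffineOpen_top W).basicOpen t⟩ =
        Ideal.span {a, c} := by
  classical
  let U : W.affineOpens := ⟨⊤, isAffineOpen_top W⟩
  let V := Scheme.IdealSheafData.vanishingIdeal ⟨{s}, hs⟩
  haveI : IsNoetherianRing Γ(W, U.1) := IsLocallyNoetherian.component_noetherian U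
  letI := W.presheaf.algebra_section_stalk (U := U.1) ⟨s, trivial⟩
  haveI := U.2.isLocalization_stalk ⟨s, trivial⟩
  set P := U.2.primeIdealOf ⟨s, trivial⟩ with hP
  have hI : V.ideal U = P.asIdeal := by
    show PrimeSpectrum.vanishingIdeal (U.2.fromSpec ⁻¹' ({s} : Set W)) = _
    have : U.2.fromSpec ⁻¹' ({s} : Set W) = {P} := by
      ext q
      simp only [Set.mem_preimage, Set.mem_singleton_iff]
      constructor
      · intro h
        exact U.2.fromSpec.isOpenEmbedding.injective (h.trans (U.2.fromSpec_primeIdealOf ⟨s, trivial⟩).symm)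
      · rintro rfl
        exact U.2.fromSpec_primeIdealOf _
    rw [this, PrimeSpectrum.vanishingIdeal_singleton]
  set m := IsLocalRing.maximalIdeal (W.presheaf.stalk s)
  have hmap : P.asIdeal.map (algebraMap Γ(W, U.1) (W.presheaf.stalk s)) = m :=
    IsLocalization.AtPrime.map_eq_maximalIdeal P.asIdeal _
  have h2 : m.spanFinrank = 2 := by
    have h := IsRegularLocalRing.spanFinrank_maximalIdeal (R := W.presheaf.stalk s)
    rw [hdim] at h
    exact_mod_cast h
  obtain ⟨G, hG, hspan⟩ := Submodule.FG.exists_span_finset_card_eq_spanFinrank (IsNoetherian.noetherian m)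
  rw [h2, Finset.card_eq_two] at hG
  obtain ⟨x, y, hxy, rfl⟩ := hG
  have hspan' : Ideal.span {x, y} = m := by simpa using hspan
  have hlow : ∀ z : W.presheaf.stalk s, m ≠ Ideal.span {z} := fun z hz => by
    have h := Submodule.spanFinrank_span_le_ncard_of_finite (R := W.presheaf.stalk s)
      (M := W.presheaf.stalk s) (Set.finite_singleton z)
    rw [show Submodule.span _ {z} = m from hz.symm, h2, Set.ncard_singleton] at h
    omega
  have hx0 : x ≠ 0 := fun h => hlow y (by rw [← hspan', h, Ideal.span_insert_zero])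
  have hy0 : y ≠ 0 := fun h => hlow x (by rw [← hspan', h, Set.pair_comm, Ideal.span_insert_zero])
  obtain ⟨⟨⟨a₀, ha₀⟩, u⟩, hau⟩ := (IsLocalization.mem_map_algebraMap_iff P.asIdeal.primeCompl _).1
    (hmap ▸ hspan' ▸ Ideal.subset_span (by simp) : x ∈ P.asIdeal.map (algebraMap Γ(W, U.1) (W.presheaf.stalk s)))
  obtain ⟨⟨⟨c₀, hc₀⟩, v⟩, hcv⟩ := (IsLocalization.mem_map_algebraMap_iff P.asIdeal.primeCompl _).1
    (hmap ▸ hspan' ▸ Ideal.subset_span (by simp) : y ∈ P.asIdeal.map (algebraMap Γ(W, U.1) (W.presheaf.stalk s)))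
  have hgen : (Ideal.span {a₀, c₀}).map (algebraMap Γ(W, U.1) (W.presheaf.stalk s)) = m := by
    have hu := IsLocalization.map_units (W.presheaf.stalk s) u
    have hv := IsLocalization.map_units (W.presheaf.stalk s) v
    rw [Ideal.map_span, Set.image_pair, ← hau, ← hcv, ← hspan', Ideal.span_insert, Ideal.span_insert,
      Ideal.span_singleton_mul_right_unit hu, Ideal.span_singleton_mul_right_unit hv]
  obtain ⟨S, hS⟩ := (IsNoetherian.noetherian P.asIdeal : P.asIdeal.FG)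
  have hkill : ∀ g ∈ S, ∃ t ∉ P.asIdeal, t * g ∈ Ideal.span {a₀, c₀} := fun g hg => by
    have h1 : algebraMap Γ(W, U.1) (W.presheaf.stalk s) g ∈
        (Ideal.span {a₀, c₀}).map (algebraMap Γ(W, U.1) (W.presheaf.stalk s)) := by
      rw [hgen, ← hmap]
      exact Ideal.mem_map_of_mem _ (hS ▸ Ideal.subset_span hg)
    obtain ⟨t, ht, htm⟩ := (IsLocalization.algebraMap_mem_map_algebraMap_iff P.asIdeal.primeCompl _ _ _).1 h1
    exact ⟨t, ht, htm⟩
  choose t ht htm using hkill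
  let T := ∏ g ∈ S.attach, t g.1 g.2
  have hT : T ∉ P.asIdeal := by
    intro h
    obtain ⟨g, -, hg⟩ := P.isPrime.prod_mem_iff.1 h
    exact ht _ _ hg
  have hsT : s ∈ W.basicOpen T := (QCoh.mem_basicOpen_iff_notMem U.2 (trivial : s ∈ U.1) T).2 hT
  let D : W.affineOpens := ⟨W.basicOpen T, U.2.basicOpen T⟩
  let ρ := (W.presheaf.map (homOfLE (W.basicOpen_le T)).op).hom
  haveI : Nonempty (D.1 : Scheme.{u}) := ⟨⟨s, hsT⟩⟩
  have hne : ∀ (z : W.presheaf.stalk s) (k : Γ(W, U.1)) (w : P.asIdeal.primeCompl), z ≠ 0 →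
      z * algebraMap Γ(W, U.1) (W.presheaf.stalk s) w = algebraMap Γ(W, U.1) (W.presheaf.stalk s) k →
      ρ k ≠ 0 := by
    intro z k w hz hzw h0
    refine hz ?_
    have h1 : algebraMap Γ(W, U.1) (W.presheaf.stalk s) k = 0 := by
      have := congrArg (W.presheaf.germ D.1 s hsT) h0
      rw [map_zero] at this
      rw [← this]
      exact (W.presheaf.germ_res_apply (homOfLE (W.basicOpen_le T)) s hsT k).symm
    rw [h1] at hzw
    exact (IsLocalization.map_units _ w).mul_left_eq_zero.1 hzw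
  refine ⟨T, hsT, ρ a₀, ρ c₀, hne x a₀ u hx0 hau, hne y c₀ v hy0 hcv, ?_⟩
  show V.ideal D = _
  rw [← V.map_ideal (U := D) (V := U) (W.basicOpen_le T), hI, ← hS, Ideal.map_span]
  refine le_antisymm (Ideal.span_le.2 ?_) (Ideal.span_le.2 ?_)
  · rintro _ ⟨g, hg, rfl⟩
    have hu : IsUnit (ρ (t g hg)) := by
      have h2 : IsUnit (ρ T) := RingedSpace.isUnit_res_basicOpen W.toLocallyRingedSpace.toRingedSpace T
      refine isUnit_of_dvd_unit (map_dvd ρ ?_) h2
      exact Finset.dvd_prod_of_mem (fun g : S => t g.1 g.2) (Finset.mem_attach S ⟨g, hg⟩)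
    refine (Ideal.unit_mul_mem_iff_mem _ hu).1 ?_
    show ρ (t g hg) * ρ g ∈ Ideal.span {ρ a₀, ρ c₀}
    rw [← map_mul, ← Set.image_pair, ← Ideal.map_span]
    exact Ideal.mem_map_of_mem ρ (htm g hg)
  · have h3 : ∀ k ∈ P.asIdeal, ρ k ∈ Ideal.span (ρ '' S) := fun k hk => by
      rw [← Ideal.map_span]
      exact Ideal.mem_map_of_mem ρ (hS ▸ hk : k ∈ Submodule.span _ (S : Set Γ(W, U.1)))
    exact Set.insert_subset_iff.2 ⟨h3 a₀ ha₀, Set.singleton_subset_iff.2 (h3 c₀ hc₀)⟩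

/-- Every point of a smooth surface near which the centre is at most a reduced point has a chart with two generators. -/
theorem exists_twoGen {k : Type u} [Field k] {X Y : Scheme.{u}} (f : Y ⟶ Spec (CommRingCat.of k))
    [SmoothOfRelativeDimension 2 f] (σ : X ⟶ Y) (Z : Closeds Y)
    (hσ : BlowUp.IsBlowUp σ (Scheme.IdealSheafData.vanishingIdeal Z))
    (O : Y.Opens) (s : Y) (hsO : s ∈ O) (hsc : IsClosed ({s} : Set Y)) (hZ : (Z : Set Y) ∩ O = {s}) :
    ∃ W : Y.affineOpens, s ∈ W.1 ∧ W.1 ≤ O ∧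
      TwoGen (σ ∣_ W.1) ((Scheme.IdealSheafData.vanishingIdeal Z).comap W.1.ι) := by
  haveI : Smooth f := SmoothOfRelativeDimension.smooth 2 f
  haveI : IsLocallyNoetherian Y := LocallyOfFiniteType.isLocallyNoetherian f
  obtain ⟨W₁, hsW₁, hW₁⟩ := exists_connected_affine s
  haveI := hW₁
  haveI : IsLocallyNoetherian W₁.1.toScheme := isLocallyNoetherian_of_isOpenImmersion W₁.1.ι
  haveI : IsIntegral W₁.1.toScheme := (S2280.result W₁.1.toScheme).2.2 ⟨inferInstance, fun y => by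
    haveI := GrpSchLib.isRegularLocalRing_stalk_of_smooth (W₁.1.ι ≫ f) y
    exact RegLoc6.isDomain_of_isRegularLocalRing _⟩
  obtain ⟨g, hgle, hsg⟩ := W₁.2.exists_basicOpen_le (V := O ⊓ W₁.1) ⟨s, hsO, hsW₁⟩ hsW₁
  let W₀ : Y.affineOpens := ⟨Y.basicOpen g, W₁.2.basicOpen g⟩
  have hW₀O : W₀.1 ≤ O := hgle.trans inf_le_left
  haveI : Nonempty W₀.1.toScheme := ⟨⟨s, hsg⟩⟩
  let j : W₀.1.toScheme ⟶ W₁.1.toScheme := Y.homOfLE (Y.basicOpen_le g)
  haveI : IsIntegral W₀.1.toScheme := isIntegral_of_isOpenImmersion j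
  haveI : IsAffine W₀.1.toScheme := W₀.2
  haveI : IsLocallyNoetherian W₀.1.toScheme := isLocallyNoetherian_of_isOpenImmersion W₀.1.ι
  let f₀ : W₀.1.toScheme ⟶ Spec (CommRingCat.of k) := W₀.1.ι ≫ f
  haveI : SmoothOfRelativeDimension 2 f₀ := by
    have : SmoothOfRelativeDimension (0 + 2) (W₀.1.ι ≫ f) := inferInstance
    exact this
  haveI : Smooth f₀ := SmoothOfRelativeDimension.smooth 2 f₀
  let s₀ : W₀.1.toScheme := ⟨s, hsg⟩
  have hs₀ : IsClosed ({s₀} : Set W₀.1.toScheme) := by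
    have h1 : ({s₀} : Set W₀.1.toScheme) = W₀.1.ι ⁻¹' {s} := by
      ext y
      simp only [Set.mem_singleton_iff, Set.mem_preimage]
      exact ⟨fun h => h ▸ rfl, fun h => W₀.1.ι.injective h⟩
    rw [h1]
    exact hsc.preimage W₀.1.ι.continuous
  haveI := GrpSchLib.isRegularLocalRing_stalk_of_smooth f₀ s₀
  have hdim : ringKrullDim (W₀.1.toScheme.presheaf.stalk s₀) = 2 := by
    refine le_antisymm ?_ (DegMult16.two_le_dim k f₀ s₀ hs₀)
    refine (SchTop.ringKrullDim_stalk_le s₀).trans ?_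
    exact le_of_eq (LefPenLib.topologicalKrullDim_eq_of_smoothRelDim f₀ (n := 2))
  obtain ⟨t, hst, a, c, ha, hc, hI⟩ := exists_two_gens s₀ hdim hs₀
  let W : Y.affineOpens := ⟨W₀.1.ι ''ᵁ W₀.1.toScheme.basicOpen t,
    ((isAffineOpen_top _).basicOpen t).image_of_isOpenImmersion W₀.1.ι⟩
  have hWW₀ : W.1 ≤ W₀.1 := W₀.1.ι_image_le _
  have hsW : s ∈ W.1 := ⟨s₀, hst, rfl⟩
  refine ⟨W, hsW, hWW₀.trans hW₀O, ?_⟩
  have hcomap : (Scheme.IdealSheafData.vanishingIdeal Z).comap W₀.1.ι =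
      Scheme.IdealSheafData.vanishingIdeal ⟨{s₀}, hs₀⟩ := by
    refine RedComap5.comap_vanishingIdeal W₀.1.ι Z
      (isReduced_of_isOpenImmersion (pullback.snd W₀.1.ι _)) _ (Set.ext fun y => ?_)
    show y ∈ ({s₀} : Set W₀.1.toScheme) ↔ W₀.1.ι y ∈ (Z : Set Y)
    refine ⟨fun h => ?_, fun h => ?_⟩
    · rw [Set.mem_singleton_iff] at h
      rw [h]
      exact (hZ.ge (Set.mem_singleton s)).1
    · have h1 : W₀.1.ι y ∈ ({s} : Set Y) := hZ.le ⟨h, hW₀O y.2⟩
      exact W₀.1.ι.injective (Set.mem_singleton_iff.1 h1)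
  haveI : Nonempty W.1.toScheme := ⟨⟨s, hsW⟩⟩
  let j' : W.1.toScheme ⟶ W₀.1.toScheme := Y.homOfLE hWW₀
  haveI : IsLocallyNoetherian W.1.toScheme := isLocallyNoetherian_of_isOpenImmersion W.1.ι
  refine ⟨W.2, isIntegral_of_isOpenImmersion j', inferInstance,
    BlowUpLib.isBlowUp_of_isPullback (isPullback_morphismRestrict σ W.1) hσ, ?_⟩
  haveI : IsAffine W.1.toScheme := W.2
  let D : W₀.1.toScheme.affineOpens := ⟨_, (isAffineOpen_top _).basicOpen t⟩
  have hr : j'.opensRange = D.1 := by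
    refine Opens.ext ?_
    ext y
    constructor
    · rintro ⟨x, rfl⟩
      obtain ⟨y', hy', hyx⟩ := x.2
      have : j' x = y' := W₀.1.ι.injective (by rw [← Scheme.Hom.comp_apply, Scheme.homOfLE_ι]; exact hyx.symm)
      rw [this]; exact hy'
    · intro hy
      refine ⟨⟨y.1, y, hy, rfl⟩, W₀.1.ι.injective ?_⟩
      rw [← Scheme.Hom.comp_apply, Scheme.homOfLE_ι]
      rfl
  refine ⟨⟨⊤, isAffineOpen_top _⟩, rfl, j'.appLE D.1 ⊤ (fun z _ => hr ▸ ⟨z, rfl⟩) a,
    j'.appLE D.1 ⊤ (fun z _ => hr ▸ ⟨z, rfl⟩) c, ?_, ?_, ?_⟩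
  · exact fun h => ha ((map_eq_zero_iff _ (PBlow.appLE_bijective j' (fun z _ => hr ▸ ⟨z, rfl⟩) hr.ge).1).1 h)
  · exact fun h => hc ((map_eq_zero_iff _ (PBlow.appLE_bijective j' (fun z _ => hr ▸ ⟨z, rfl⟩) hr.ge).1).1 h)
  · have hj : j' ≫ W₀.1.ι = W.1.ι := Y.homOfLE_ι hWW₀
    rw [← hj, Scheme.IdealSheafData.comap_comp, hcomap, ModPairLib.comap_ideal_of_opensRange j' _ D hr,
      show (Scheme.IdealSheafData.vanishingIdeal ⟨{s₀}, hs₀⟩).ideal D = _ from hI, Ideal.map_span, Set.image_pair]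

end Groth.Agent.BlowPush22

end
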