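import Groth.Agent.BlowPush22.Surf
import Groth.Agent.BlowPush22.Divide
import Groth.Agent.BlowPush22.DepthStalk
import Groth.Agent.ConsPropLib.FibreLocFree
import Groth.Agent.ModPairLib.Basic
import Groth.Agent.ExistEasy.PP.HatLemmas
import Groth.Agent.H23.PicInv

/-!
# Pushing locally free modules down from the blow-up of points of a smooth surface
-/

set_option autoImplicit false
set_option linter.style.haveILetI false
set_option backward.isDefEq.respectTransparency false
set_option backward.isDefEq.respectTransparency.types false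
set_option maxHeartbeats 800000

universe u

open CategoryTheory CategoryTheory.Limits AlgebraicGeometry TopologicalSpace Opposite

noncomputable section

namespace Groth.Agent.BlowPush22

open Groth.Agent Groth.Agent.AModX

/-- Sections of a locally free module are determined off an effective Cartier divisor. -/
theorem res_injective_of_lf {X : Scheme.{u}} {E : X.IdealSheafData} (hE : BlowUp.IsEffCartierIdeal E)
    {M : X.Modules} (hM : FlatMod.IsFinLocFree M) (V : X.Opens) :
    Function.Injective (res M (inf_le_left : V ⊓ E.support.compl ≤ V)) := by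
  refine (injective_iff_map_eq_zero _).2 fun t ht => eq_of_locally _ _ fun p hp => ?_
  obtain ⟨V₁, m, hpV, ⟨e⟩⟩ := hM p
  obtain ⟨s, hs⟩ := H23.Frame.exists_frame e
  obtain ⟨U, hpU, a, ha, hEU⟩ := hE p
  obtain ⟨g, hgle, hpg⟩ := U.2.exists_basicOpen_le (V := V ⊓ V₁) ⟨p, hp, hpV⟩ hpU
  let D : X.affineOpens := ⟨X.basicOpen g, U.2.basicOpen g⟩
  have hDU : D.1 ≤ U.1 := X.basicOpen_le g
  have hDV : D.1 ≤ V := hgle.trans inf_le_left
  have hD1 : D.1 ≤ V₁ := hgle.trans inf_le_right
  refine ⟨D.1, hDV, hpg, ?_⟩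
  let a' := resR hDU a
  haveI := U.2.isLocalization_basicOpen g
  have ha' : a' ∈ nonZeroDivisors Γ(X, D.1) := MeroX.nonZeroDivisors_map (Submonoid.powers g) ha
  have hbo : X.basicOpen a' ≤ E.support.compl := by
    intro y hy hyE
    have h1 := (Scheme.IdealSheafData.mem_support_iff_of_mem (U := D) (X.basicOpen_le a' hy)).1 hyE
    rw [Scheme.mem_zeroLocus_iff] at h1
    refine h1 a' ?_ hy
    rw [← E.map_ideal (U := D) (V := U) hDU, hEU]
    exact Ideal.mem_map_of_mem _ (Ideal.mem_span_singleton_self a)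
  haveI := D.2.isLocalization_basicOpen a'
  have hle : X.basicOpen a' ≤ V ⊓ E.support.compl := le_inf ((X.basicOpen_le a').trans hDV) hbo
  obtain ⟨c, hc⟩ := (hs D.1 hD1).2 (res M hDV t)
  have h0 : (fun j => resR (X.basicOpen_le a') (c j)) = 0 := by
    refine (hs (X.basicOpen a') ((X.basicOpen_le a').trans hD1)).1 ?_
    have h2 : res M ((X.basicOpen_le a').trans hDV) t = 0 := by
      have h3 := congrArg (res M hle) ht
      rwa [res_res, map_zero] at h3
    have h1 := congrArg (res M (X.basicOpen_le a')) hc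
    rw [res_res, h2] at h1
    simp only [H23.Frame.comb, map_sum] at h1 ⊢
    refine Eq.trans ?_ (h1.trans ?_)
    · exact Finset.sum_congr rfl fun j _ => ((res_smul (M := M) _ _ _).trans (congrArg _ (res_res _ _ _))).symm
    · simp
  have hc0 : c = 0 := funext fun j => by
    obtain ⟨⟨k, n, rfl⟩, hk⟩ := (IsLocalization.map_eq_zero_iff (Submonoid.powers a')
      Γ(X, X.basicOpen a') (c j)).1 (congrFun h0 j)
    exact mem_nonZeroDivisors_iff_left.1 (pow_mem ha' n) _ hk
  rw [map_zero, ← hc, hc0]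
  simp [H23.Frame.comb]

/-- Direct images along isomorphisms of locally free modules are locally free. -/
theorem isFinLocFree_push_iso {A B : Scheme.{u}} (g : A ⟶ B) [IsIso g] {F : A.Modules} (hF : FlatMod.IsFinLocFree F) :
    FlatMod.IsFinLocFree ((Scheme.Modules.pushforward g).obj F) := by
  haveI := isIso_counit_of_isIso g hF
  let M := (Scheme.Modules.pushforward g).obj F
  let c : (Scheme.Modules.pullback g).obj M ≅ F :=
    asIso ((Scheme.Modules.pullbackPushforwardAdjunction g).counit.app F)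
  refine H23.PullPush.isFinLocFree_of_iso ?_ (KFlatLib.isFinLocFree_pullback (inv g) hF)
  exact (Scheme.Modules.pullback (inv g)).mapIso c.symm ≪≫ (Scheme.Modules.pullbackComp (inv g) g).app M ≪≫
    (Scheme.Modules.pullbackCongr (IsIso.inv_hom_id g)).app M ≪≫ (Scheme.Modules.pullbackId B).app M

theorem exists_free_of_restrict {X : Scheme.{u}} (O : X.Opens) {M : X.Modules}
    (h : FlatMod.IsFinLocFree (M.restrict O.ι)) {x : X} (hx : x ∈ O) :
    ∃ (U : X.Opens) (n : ℕ), x ∈ U ∧ Nonempty (M.restrict U.ι ≅ FlatMod.freeMod (U : Scheme.{u}) n) := by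
  obtain ⟨U, n, hz, ⟨e⟩⟩ := h ⟨x, hx⟩
  let φ : (O.ι ''ᵁ U).toScheme ≅ U.toScheme := (O.ι.isoImage U).symm
  refine ⟨O.ι ''ᵁ U, n, ⟨⟨x, hx⟩, hz, rfl⟩, ⟨?_⟩⟩
  exact (Scheme.Modules.restrictFunctorIsoPullback _).app M ≪≫
    (Scheme.Modules.pullbackCongr (show (O.ι ''ᵁ U).ι = φ.hom ≫ U.ι ≫ O.ι by simp [φ])).app M ≪≫
    ((Scheme.Modules.pullbackComp φ.hom (U.ι ≫ O.ι)).app M).symm ≪≫
    (Scheme.Modules.pullback φ.hom).mapIso (((Scheme.Modules.pullbackComp U.ι O.ι).app M).symm ≪≫
      (Scheme.Modules.pullback U.ι).mapIso ((Scheme.Modules.restrictFunctorIsoPullback O.ι).app M).symm ≪≫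
      ((Scheme.Modules.restrictFunctorIsoPullback U.ι).app _).symm ≪≫ e) ≪≫ KFlatLib.pullFreeIso φ.hom n

variable {k : Type u} [Field k] {X Y : Scheme.{u}} (f : Y ⟶ Spec (CommRingCat.of k)) [SmoothOfRelativeDimension 2 f]
  (σ : X ⟶ Y) (Z : Closeds Y) (hfin : (Z : Set Y).Finite) (hpts : ∀ z ∈ (Z : Set Y), IsClosed ({z} : Set Y))
  (hσ : BlowUp.IsBlowUp σ (Scheme.IdealSheafData.vanishingIdeal Z))

theorem mem_exceptional_support {x : X} :
    x ∈ (BlowUp.exceptional σ (Scheme.IdealSheafData.vanishingIdeal Z)).support ↔ σ x ∈ (Z : Set Y) := by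
  simp only [BlowUp.exceptional, Scheme.IdealSheafData.support_comap]
  exact Iff.rfl

include f hfin hpts in
/-- Global vanishing on the exceptional divisor gives vanishing over every chart meeting the centre at most once. -/
theorem subsingleton_part {N : X.Modules} {s : Y} (hs : s ∈ (Z : Set Y)) (W : Y.Opens) (hsW : s ∈ W)
    (hW : (Z : Set Y) ∩ W ⊆ {s})
    (h : Subsingleton Γ((Scheme.Modules.pullback
      (BlowUp.exceptional σ (Scheme.IdealSheafData.vanishingIdeal Z)).subschemeι).obj N, ⊤)) :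
    Subsingleton Γ((Scheme.Modules.pullback
      (BlowUp.exceptional σ (Scheme.IdealSheafData.vanishingIdeal Z)).subschemeι).obj N,
      (BlowUp.exceptional σ (Scheme.IdealSheafData.vanishingIdeal Z)).subschemeι ⁻¹ᵁ (σ ⁻¹ᵁ W)) := by
  let E := BlowUp.exceptional σ (Scheme.IdealSheafData.vanishingIdeal Z)
  let M := (Scheme.Modules.pullback E.subschemeι).obj N
  let A : E.subscheme.Opens := E.subschemeι ⁻¹ᵁ (σ ⁻¹ᵁ W)
  let O : Y.Opens := ⟨{s}ᶜ, (hpts s hs).isOpen_compl⟩
  let B : E.subscheme.Opens := E.subschemeι ⁻¹ᵁ (σ ⁻¹ᵁ O)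
  have hAB : ∀ p : E.subscheme, p ∈ A ⊓ B → False := fun p hp => by
    have hZp : σ (E.subschemeι p) ∈ (Z : Set Y) :=
      (mem_exceptional_support σ Z).1 (show E.subschemeι p ∈ (E.support : Set X) from E.range_subschemeι.le ⟨p, rfl⟩)
    exact hp.2 (hW ⟨hZp, hp.1⟩)
  have hcov : ∀ p : E.subscheme, p ∈ A ∨ p ∈ B := fun p => by
    by_cases hp : σ (E.subschemeι p) = s
    · left
      show σ (E.subschemeι p) ∈ W
      rw [hp]; exact hsW
    · exact Or.inr hp
  refine subsingleton_of_forall_eq 0 fun t => ?_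
  have hdis : Subsingleton Γ(M, A ⊓ B) :=
    ⟨fun p q => eq_of_locally _ _ fun z hz => (hAB z hz).elim⟩
  obtain ⟨T, hTA, -⟩ := QCoh.exists_glue_sup (W := ⊤) (U := A) (V := B)
    (le_antisymm (fun p _ => hcov p) le_top) le_top le_top t (0 : Γ(M, B)) (hdis.elim _ _)
  rw [← hTA, Subsingleton.elim (α := Γ(M, ⊤)) T 0]
  exact map_zero _

variable {F : X.Modules} (hF : FlatMod.IsFinLocFree F)

include f hfin hpts hσ hF in
/-- Modules without sections of the twist on the exceptional divisor push down to locally free modules. -/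
theorem isFinLocFree_push {L : X.Modules}
    (hL : ClSub.IsInverseOf L (ClSub.idealMod (BlowUp.exceptional σ (Scheme.IdealSheafData.vanishingIdeal Z))))
    (h0 : Subsingleton (Coh.HH (BlowUp.exceptional σ (Scheme.IdealSheafData.vanishingIdeal Z)).subscheme
      ((Scheme.Modules.pullback (BlowUp.exceptional σ (Scheme.IdealSheafData.vanishingIdeal Z)).subschemeι).obj
        (CohB1.tensorMod F L)) 0)) :
    FlatMod.IsFinLocFree ((Scheme.Modules.pushforward σ).obj F) := by
  haveI : Smooth f := SmoothOfRelativeDimension.smooth 2 f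
  haveI : IsLocallyNoetherian Y := LocallyOfFiniteType.isLocallyNoetherian f
  haveI := isProper_sigma f σ Z hfin hpts hσ
  haveI : IsLocallyNoetherian X := LocallyOfFiniteType.isLocallyNoetherian σ
  let C := Scheme.IdealSheafData.vanishingIdeal Z
  let E := BlowUp.exceptional σ C
  have hcoh : Coh.IsCoh ((Scheme.Modules.pushforward σ).obj F) :=
    ExistEasy.isCoh_pushforward_proper σ (isCoh_of_lf hF)
  intro y
  by_cases hy : y ∈ (Z : Set Y)
  · obtain ⟨W, hyW, hWZ, hT⟩ := exists_chart f σ Z hfin hpts hσ y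
    haveI : IsIntegral (σ ⁻¹ᵁ W.1).toScheme := hT.isIntegral
    haveI := hT.int
    obtain ⟨⟨U₀, hU₀⟩, hU₀top, a₀, c₀, ha₀, -, hgen₀⟩ := hT.gens
    subst hU₀top
    haveI : IsAffine W.1.toScheme := W.2
    let φ := (W.1.ι.appLE W.1 ⊤ (fun x _ => x.2)).hom
    have hφ : Function.Bijective φ := PBlow.appLE_bijective W.1.ι _ (by rw [Scheme.Opens.opensRange_ι])
    obtain ⟨a, rfl⟩ := hφ.2 a₀
    obtain ⟨c, rfl⟩ := hφ.2 c₀
    have hCW : C.ideal W = Ideal.span {a, c} := by
      have h1 := ModPairLib.ideal_comap C W.1.ι W ⟨⊤, hU₀⟩ (fun x _ => x.2)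
      rw [hgen₀, ← Set.image_pair, ← Ideal.map_span] at h1
      rw [← Ideal.comap_map_of_bijective φ hφ (I := C.ideal W), ← Ideal.comap_map_of_bijective φ hφ (I := Ideal.span {a, c})]
      exact congrArg (Ideal.comap φ) h1.symm
    have hinj : Function.Injective (σ.app W.1) := (bijective_app_points f σ Z hpts hσ W.1).1
    have ha : σ.app W.1 a ≠ 0 := fun h => ha₀ (by rw [hinj (h.trans (map_zero _).symm), map_zero])
    have hgen : ∀ (D : X.affineOpens) (h : D.1 ≤ σ ⁻¹ᵁ W.1),
        E.ideal D = Ideal.span {resR h (σ.app W.1 a), resR h (σ.app W.1 c)} := fun D h => by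
      show (C.comap σ).ideal D = _
      rw [ModPairLib.ideal_comap C σ W D h, hCW, Ideal.map_span, Set.image_pair]
      rfl
    have hmem : ∀ b ∈ C.ideal W, y ∉ Y.basicOpen b := fun b hb => by
      have h1 := (Scheme.IdealSheafData.mem_support_iff_of_mem (I := C) (U := W) hyW).1 hy
      rw [Scheme.mem_zeroLocus_iff] at h1
      exact h1 b hb
    haveI := GrpSchLib.isRegularLocalRing_stalk_of_smooth f y
    have hdim : ringKrullDim (Y.presheaf.stalk y) ≤ 2 := by
      haveI : Smooth (W.1.ι ≫ f) := inferInstance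
      haveI : SmoothOfRelativeDimension 2 (W.1.ι ≫ f) := by
        have : SmoothOfRelativeDimension (0 + 2) (W.1.ι ≫ f) := inferInstance
        exact this
      haveI : IsLocallyNoetherian W.1.toScheme := hT.noeth
      rw [← ringKrullDim_eq_of_ringEquiv (W.1.stalkIso ⟨y, hyW⟩).commRingCatIsoToRingEquiv]
      haveI : Nonempty W.1.toScheme := ⟨⟨y, hyW⟩⟩
      exact (SchTop.ringKrullDim_stalk_le _).trans
        (le_of_eq (LefPenLib.topologicalKrullDim_eq_of_smoothRelDim (W.1.ι ≫ f) (n := 2)))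
    have hR : LocCoh.depth (Y.presheaf.stalk y) (Y.presheaf.stalk y) ≤ 2 := by
      rw [← depth_of_regular] at hdim
      exact WithBot.coe_le_coe.1 hdim
    haveI := free_stalk_of_relation hcoh.1 hcoh.2 W.2 hyW hR a c
      (hmem a (hCW ▸ Ideal.subset_span (Set.mem_insert _ _)))
      (hmem c (hCW ▸ Ideal.subset_span (Set.mem_insert_of_mem _ rfl)))
      (fun v hv => smul_eq_zero_of_lf (M := F) hF (le_rfl : σ ⁻¹ᵁ W.1 ≤ σ ⁻¹ᵁ W.1) ha hv)
      (fun v w h => exists_quot_of_relation hF E hσ.1 hL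
        (subsingleton_part f σ Z hfin hpts hy W.1 hyW hWZ ((LerayCorner.subsingleton_HH_zero_iff _).1 h0))
        (σ.app W.1 a) (σ.app W.1 c) ha hgen v w h)
    exact QCoh.exists_free_nhd_of_free_stalk (QCoh.isCoh_iff_isFP.1 hcoh) y
  · let O : Y.Opens := C.support.compl
    haveI : IsIso (σ ∣_ O) := BlowUpX.isIso_restrict hσ
    refine exists_free_of_restrict O (H23.PullPush.isFinLocFree_of_iso ?_
      (isFinLocFree_push_iso (σ ∣_ O) (exists_mono_of_lf_restrict (σ ⁻¹ᵁ O) hF))) (show y ∈ O from hy)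
    exact (asIso ((H23.PullPush.pushRestrict σ O).app F)).symm

include hσ hF in
/-- The relative counit of such a module is injective. -/
theorem mono_counit (hpush : FlatMod.IsFinLocFree ((Scheme.Modules.pushforward σ).obj F)) :
    Mono ((Scheme.Modules.pullbackPushforwardAdjunction σ).counit.app F) := by
  let O : Y.Opens := (Scheme.IdealSheafData.vanishingIdeal Z).support.compl
  haveI : IsIso (σ ∣_ O) := BlowUpX.isIso_restrict hσ
  let η := (Scheme.Modules.pullbackPushforwardAdjunction σ).counit.app F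
  have hiso : IsIso ((Scheme.Modules.restrictFunctor (σ ⁻¹ᵁ O).ι).map η) :=
    H23.PullPush.isIso_restrict_counit σ O F (isIso_counit_of_isIso (σ ∣_ O) (exists_mono_of_lf_restrict _ hF))
  refine QCoh.mono_of_app_injective _ fun V => (injective_iff_map_eq_zero _).2 fun t ht => ?_
  let V' : X.Opens := V ⊓ (BlowUp.exceptional σ (Scheme.IdealSheafData.vanishingIdeal Z)).support.compl
  refine res_injective_of_lf hσ.1 (KFlatLib.isFinLocFree_pullback σ hpush) V ?_
  rw [map_zero]
  have hV' : V' ≤ σ ⁻¹ᵁ O := fun x hx h => hx.2 ((mem_exceptional_support σ Z).2 h)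
  have h1 : Function.Injective (η.app ((σ ⁻¹ᵁ O).ι ''ᵁ ((σ ⁻¹ᵁ O).ι ⁻¹ᵁ V'))) := by
    haveI := hiso
    exact QCoh.app_injective ((Scheme.Modules.restrictFunctor (σ ⁻¹ᵁ O).ι).map η) ((σ ⁻¹ᵁ O).ι ⁻¹ᵁ V')
  rw [show (σ ⁻¹ᵁ O).ι ''ᵁ ((σ ⁻¹ᵁ O).ι ⁻¹ᵁ V') = V' by
    rw [Scheme.Hom.image_preimage_eq_opensRange_inf, Scheme.Opens.opensRange_ι]; exact inf_eq_right.2 hV'] at h1
  refine h1 ?_
  rw [map_zero]
  exact (app_res η _ t).trans ((congrArg _ ht).trans (map_zero _))


include hσ hF in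
/-- No nonzero map from a skyscraper at a point of the centre into the direct image. -/
theorem hom_eq_zero {T : Scheme.{u}} (g : T ⟶ Y) (hg : ∀ t, g t ∈ (Z : Set Y)) (M : T.Modules)
    (φ : (Scheme.Modules.pushforward g).obj M ⟶ (Scheme.Modules.pushforward σ).obj F) : φ = 0 := by
  ext V t
  let V' : Y.Opens := V ⊓ Z.compl
  have hsub : Subsingleton Γ((Scheme.Modules.pushforward g).obj M, V') :=
    ⟨fun p q => eq_of_locally (M := M) (V := g ⁻¹ᵁ V') p q fun z hz => (hz.2 (hg z)).elim⟩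
  have h1 : res ((Scheme.Modules.pushforward σ).obj F) (inf_le_left : V' ≤ V) (φ.app V t) = 0 := by
    rw [← app_res φ (inf_le_left : V' ≤ V) t, hsub.elim (res _ inf_le_left t) 0, map_zero]
  refine res_injective_of_lf hσ.1 hF (σ ⁻¹ᵁ V) ?_
  refine Eq.trans ?_ (map_zero _).symm
  have hle : σ ⁻¹ᵁ V ⊓ (BlowUp.exceptional σ (Scheme.IdealSheafData.vanishingIdeal Z)).support.compl ≤ σ ⁻¹ᵁ V' :=
    fun x hx => ⟨hx.1, fun h => hx.2 ((mem_exceptional_support σ Z).2 h)⟩
  have h2 := congrArg (res F hle) (show res F (fun x hx => hx.1 : σ ⁻¹ᵁ V' ≤ σ ⁻¹ᵁ V) (φ.app V t) = 0 from h1)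
  rw [map_zero, res_res] at h2
  exact h2

/-- An invertible ideal has an inverse. -/
theorem exists_isInverseOf {X : Scheme.{u}} {E : X.IdealSheafData} (hE : BlowUp.IsEffCartierIdeal E) :
    ∃ L : X.Modules, ClSub.IsInverseOf L (ClSub.idealMod E) := by
  obtain ⟨L, -, hL⟩ := H23.PicInv.exists_inverse (H26.IdealCl.isInvertible_idealMod hE)
  refine ⟨L, ?_⟩
  show Nonempty _
  letI := H23.PicMul.clMonoid X
  refine H23.PicMul.cl_eq_iff.1 ?_
  rw [← H23.PicMul.cl_eq_iff.2 hL, H23.PicMul.cl_tensor, H23.PicMul.cl_tensor, mul_comm]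

end Groth.Agent.BlowPush22


end
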