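import Groth.Agent.BlowPush22.Global
import Groth.Agent.FlatLoc6.RegCM

/-!
# The relative counit on the blow-up of finitely many points of a smooth surface
-/

set_option autoImplicit false
set_option linter.style.haveILetI false
set_option backward.isDefEq.respectTransparency false
set_option backward.isDefEq.respectTransparency.types false
set_option maxHeartbeats 800000

universe u

open CategoryTheory CategoryTheory.Limits AlgebraicGeometry TopologicalSpace Opposite

noncomputable section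

namespace Groth.Agent.BlowPush22

open Groth.Agent

theorem isFinLocFree_free (X : Scheme.{u}) (r : ℕ) : FlatMod.IsFinLocFree (FlatMod.freeMod X r) :=
  fun _ => ⟨⊤, r, trivial, ⟨(Scheme.Modules.restrictFunctorIsoPullback _).app _ ≪≫ KFlatLib.pullFreeIso _ r⟩⟩

theorem depth_of_regular (R : Type u) [CommRing R] [IsRegularLocalRing R] :
    ((LocCoh.depth R R : ℕ∞) : WithBot ℕ∞) = ringKrullDim R := by
  haveI := LC.gorenstein_of_isRegularLocalRing (R := R)
  haveI hCM : LocCoh.IsCohenMacaulayLocalRing R := LC.isCohenMacaulayLocalRing_of_gorenstein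
  rw [← hCM.supportDim_eq_depth, Module.supportDim_self_eq_ringKrullDim]

/-- Closed points of a smooth surface have depth two. -/
theorem two_le_depth_point {k : Type u} [Field k] {Y : Scheme.{u}} (f : Y ⟶ Spec (CommRingCat.of k))
    [SmoothOfRelativeDimension 2 f] (s : Y) (hs : IsClosed ({s} : Set Y)) :
    (2 : ℕ∞) ≤ LocCoh.depth (Y.presheaf.stalk s) (Y.presheaf.stalk s) := by
  haveI : Smooth f := SmoothOfRelativeDimension.smooth 2 f
  haveI : IsLocallyNoetherian Y := LocallyOfFiniteType.isLocallyNoetherian f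
  haveI := GrpSchLib.isRegularLocalRing_stalk_of_smooth f s
  obtain ⟨W₁, hsW₁, hW₁⟩ := exists_connected_affine s
  haveI := hW₁
  haveI : IsLocallyNoetherian W₁.1.toScheme := isLocallyNoetherian_of_isOpenImmersion W₁.1.ι
  haveI : IsIntegral W₁.1.toScheme := (S2280.result W₁.1.toScheme).2.2 ⟨inferInstance, fun y => by
    haveI := GrpSchLib.isRegularLocalRing_stalk_of_smooth (W₁.1.ι ≫ f) y
    exact RegLoc6.isDomain_of_isRegularLocalRing _⟩
  haveI : SmoothOfRelativeDimension 2 (W₁.1.ι ≫ f) := by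
    have : SmoothOfRelativeDimension (0 + 2) (W₁.1.ι ≫ f) := inferInstance
    exact this
  let s₁ : W₁.1.toScheme := ⟨s, hsW₁⟩
  have hs₁ : IsClosed ({s₁} : Set W₁.1.toScheme) := by
    have h1 : ({s₁} : Set W₁.1.toScheme) = W₁.1.ι ⁻¹' {s} := by
      ext y
      simp only [Set.mem_singleton_iff, Set.mem_preimage]
      exact ⟨fun h => h ▸ rfl, fun h => W₁.1.ι.injective h⟩
    rw [h1]
    exact hs.preimage W₁.1.ι.continuous
  have h2 := DegMult16.two_le_dim k (W₁.1.ι ≫ f) s₁ hs₁
  rw [ringKrullDim_eq_of_ringEquiv (W₁.1.stalkIso s₁).commRingCatIsoToRingEquiv, ← depth_of_regular] at h2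
  exact WithBot.coe_le_coe.1 h2

variable {k : Type u} [Field k] {X Y : Scheme.{u}} (f : Y ⟶ Spec (CommRingCat.of k)) [SmoothOfRelativeDimension 2 f]
  (σ : X ⟶ Y) (Z : Closeds Y) (hfin : (Z : Set Y).Finite) (hpts : ∀ z ∈ (Z : Set Y), IsClosed ({z} : Set Y))
  (hσ : BlowUp.IsBlowUp σ (Scheme.IdealSheafData.vanishingIdeal Z))

include f hpts hσ in
theorem bijective_app_points (W : Y.Opens) : Function.Bijective (σ.app W) := by
  haveI : Smooth f := SmoothOfRelativeDimension.smooth 2 f
  haveI : IsLocallyNoetherian Y := LocallyOfFiniteType.isLocallyNoetherian f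
  exact bijective_app _ σ hσ (fun y hy => two_le_depth_point f y (hpts y hy)) W

variable {F : X.Modules} (hF : FlatMod.IsFinLocFree F)

include f hfin hpts hσ hF in
/-- A module trivial on every exceptional curve is pulled back from the base. -/
theorem isIso_counit_of_free {r : ℕ}
    (he : Nonempty ((Scheme.Modules.pullback (BlowUp.exceptional σ (Scheme.IdealSheafData.vanishingIdeal Z)).subschemeι).obj F ≅
      FlatMod.freeMod (BlowUp.exceptional σ (Scheme.IdealSheafData.vanishingIdeal Z)).subscheme r)) :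
    IsIso ((Scheme.Modules.pullbackPushforwardAdjunction σ).counit.app F) := by
  refine H23.ModLoc.isIso_of_locally _ fun x => ?_
  by_cases hx : σ x ∈ (Z : Set Y)
  · obtain ⟨W, V, hsW, hV, hVU, ⟨e⟩⟩ := exists_free_chart f σ Z hfin hpts hσ hF (σ x)
      (BlowUp.exceptional σ (Scheme.IdealSheafData.vanishingIdeal Z)) (fun _ _ => rfl) he
    haveI := isProper_sigma f σ Z hfin hpts hσ
    let W' : Y.Opens := W.1 ⊓ ⟨(σ '' (V : Set X)ᶜ)ᶜ, (σ.isClosedMap _ V.2.isClosed_compl).isOpen_compl⟩
    have hsW' : σ x ∈ W' := by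
      refine ⟨hsW, ?_⟩
      rintro ⟨y, hy, hxy⟩
      exact hy (hV y (hxy ▸ hsW) (hxy ▸ hx))
    have hle : σ ⁻¹ᵁ W' ≤ V := fun y hy => by
      by_contra hne
      exact hy.2 ⟨y, hne, rfl⟩
    refine ⟨σ ⁻¹ᵁ W', hsW', H23.PullPush.isIso_restrict_counit σ W' F ?_⟩
    have hb : ∀ O : W'.toScheme.Opens, Function.Bijective ((σ ∣_ W').app O) :=
      H23.PullPush.app_morphismRestrict_bijective σ (bijective_app_points f σ Z hpts hσ) W'
    haveI := H23.PullPush.isIso_counit_pullback_of_isFinLocFree (σ ∣_ W') hb _ (isFinLocFree_free _ r)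
    let j := X.homOfLE hle
    let ε : F.restrict (σ ⁻¹ᵁ W').ι ≅ (Scheme.Modules.pullback (σ ∣_ W')).obj (FlatMod.freeMod W'.toScheme r) :=
      (Scheme.Modules.restrictFunctorIsoPullback _).app F ≪≫
        (Scheme.Modules.pullbackCongr (X.homOfLE_ι hle).symm).app F ≪≫
        ((Scheme.Modules.pullbackComp j V.ι).app F).symm ≪≫
        (Scheme.Modules.pullback j).mapIso (((Scheme.Modules.restrictFunctorIsoPullback V.ι).app F).symm ≪≫ e) ≪≫
        KFlatLib.pullFreeIso j r ≪≫ (KFlatLib.pullFreeIso (σ ∣_ W') r).symm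
    exact (NatTrans.isIso_app_iff_of_iso _ ε.symm).1 inferInstance
  · let O : Y.Opens := (Scheme.IdealSheafData.vanishingIdeal Z).support.compl
    haveI : IsIso (σ ∣_ O) := BlowUpX.isIso_restrict hσ
    exact ⟨σ ⁻¹ᵁ O, hx, H23.PullPush.isIso_restrict_counit σ O F
      (isIso_counit_of_isIso (σ ∣_ O) (exists_mono_of_lf_restrict _ hF))⟩

end Groth.Agent.BlowPush22

end
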