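import Groth.Agent.BlowPush22.Push
import Groth.Agent.BlowPush22.HOne
import Groth.Agent.Lib.LerayOneDegree
import Groth.Agent.H9Misc.RelExtTwistVanish

/-!
# The rank and the cohomology of direct images from point blow-ups
-/

set_option autoImplicit false
set_option linter.style.haveILetI false
set_option backward.isDefEq.respectTransparency false
set_option backward.isDefEq.respectTransparency.types false
set_option maxHeartbeats 800000

universe u

open CategoryTheory CategoryTheory.Limits AlgebraicGeometry TopologicalSpace Opposite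

noncomputable section

namespace Groth.Agent.BlowPush22

open Groth.Agent

/-- Cohomology through a direct image without higher terms. -/
theorem leray_linear {k : Type u} [Field k] {X Y : Scheme.{u}} [X.Over (Spec (CommRingCat.of k))]
    [Y.Over (Spec (CommRingCat.of k))] (π : X ⟶ Y)
    (hπ : π ≫ (Y ↘ Spec (CommRingCat.of k)) = X ↘ Spec (CommRingCat.of k)) {L : X.Modules}
    [HasInjectiveResolutions X.Modules] (hR : ∀ p : ℕ, 0 < p → IsZero ((Coh.Rpush π p).obj L)) (i : ℕ) :
    Nonempty (Coh.HH X L i ≃ₗ[k] Coh.HH Y ((Scheme.Modules.pushforward π).obj L) i) := by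
  haveI := SpObjSS.enoughInjectives_of_hasInjectiveResolutions (C := X.Modules)
  haveI := QCoh.preservesFiniteLimits_push π
  obtain ⟨e⟩ := LerayOneDegree.nonempty_HH (A := k) (Coh.toGlobal (Y ↘ Spec (CommRingCat.of k))) π (M := L) 0 i
    fun n hn => hR n (Nat.pos_of_ne_zero hn)
  have hring : π.appTop.hom.comp (Coh.toGlobal (Y ↘ Spec (CommRingCat.of k))) =
      Coh.toGlobal (X ↘ Spec (CommRingCat.of k)) := by
    rw [← hπ]
    rfl
  let e' := QCoh.HHcongr (Coh.toGlobal (Y ↘ Spec (CommRingCat.of k)))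
    ((Scheme.Modules.pushforward π).rightDerivedZeroIsoSelf.app L).symm i
  rw [hring, Nat.zero_add] at e
  exact ⟨(e'.trans e).symm⟩

variable {k : Type u} [Field k] {X Y : Scheme.{u}} (f : Y ⟶ Spec (CommRingCat.of k)) [SmoothOfRelativeDimension 2 f]
  (σ : X ⟶ Y) (Z : Closeds Y) (hfin : (Z : Set Y).Finite) (hpts : ∀ z ∈ (Z : Set Y), IsClosed ({z} : Set Y))
  (hσ : BlowUp.IsBlowUp σ (Scheme.IdealSheafData.vanishingIdeal Z))

include f hpts in
/-- The complement of the centre meets every nonempty open of an integral surface. -/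
theorem exists_mem_compl [IsIntegral Y] {U : Y.Opens} {x : Y} (hx : x ∈ U) : ∃ y ∈ U, y ∉ (Z : Set Y) := by
  refine ⟨genericPoint Y, ((genericPoint_spec Y).mem_open_set_iff U.2).2 ⟨x, trivial, hx⟩, fun hη => ?_⟩
  have h2 := DegMult16.two_le_dim k f (genericPoint Y) (hpts _ hη)
  have h0 : ringKrullDim (Y.presheaf.stalk (genericPoint Y)) = 0 :=
    (inferInstance : Ring.KrullDimLE 0 (Y.presheaf.stalk (genericPoint Y))) |> fun _ => ringKrullDim_eq_zero_of_isField
      (Field.toIsField Y.functionField)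
  rw [h0] at h2
  exact absurd h2 (by decide)

variable {F : X.Modules} {r : ℕ} (hr : FlatMod.IsFinLocFreeOfRank r F)

include f hpts hσ hr in
/-- A locally free direct image keeps the rank. -/
theorem rank_push [IsIntegral Y] (h : FlatMod.IsFinLocFree ((Scheme.Modules.pushforward σ).obj F)) :
    FlatMod.IsFinLocFreeOfRank r ((Scheme.Modules.pushforward σ).obj F) := by
  intro x
  obtain ⟨U, n, hxU, ⟨e⟩⟩ := h x
  suffices hn : n = r by subst hn; exact ⟨U, hxU, ⟨e⟩⟩
  obtain ⟨y, hyU, hyZ⟩ := exists_mem_compl f Z hpts hxU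
  let O : Y.Opens := (Scheme.IdealSheafData.vanishingIdeal Z).support.compl
  haveI : IsIso (σ ∣_ O) := BlowUpX.isIso_restrict hσ
  obtain ⟨z, hz⟩ := (σ ∣_ O).surjective ⟨y, hyZ⟩
  let V : X.Opens := σ ⁻¹ᵁ O
  let M := (Scheme.Modules.pullback σ).obj ((Scheme.Modules.pushforward σ).obj F)
  let W : V.toScheme.Opens := V.ι ⁻¹ᵁ (σ ⁻¹ᵁ U)
  have hzW : z ∈ W := by
    show σ (V.ι z) ∈ U
    rw [← Scheme.Hom.comp_apply, ← morphismRestrict_ι, Scheme.Hom.comp_apply, hz]
    exact hyU
  haveI hiso : IsIso ((Scheme.Modules.restrictFunctor V.ι).map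
      ((Scheme.Modules.pullbackPushforwardAdjunction σ).counit.app F)) :=
    H23.PullPush.isIso_restrict_counit σ O F
      (isIso_counit_of_isIso (σ ∣_ O) (exists_mono_of_lf_restrict V (fun z => (hr z).elim fun U h => ⟨U, r, h⟩)))
  let c : M.restrict V.ι ≅ F.restrict V.ι := asIso ((Scheme.Modules.restrictFunctor V.ι).map
    ((Scheme.Modules.pullbackPushforwardAdjunction σ).counit.app F))
  obtain ⟨eU⟩ := free_restrict_pullback σ e
  obtain ⟨eW⟩ := free_restrict_pullback V.ι eU
  have h1 : FlatMod.IsFinLocFreeOfRank r (((Scheme.Modules.pullback V.ι).obj M).restrict W.ι) := by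
    have h2 := H23.GrassFlag.rank_pullback W.ι (H23.GrassFlag.rank_pullback V.ι hr)
    intro w
    obtain ⟨A, hw, ⟨eA⟩⟩ := h2 w
    refine ⟨A, hw, ⟨(Scheme.Modules.restrictFunctor A.ι).mapIso ?_ ≪≫ eA⟩⟩
    exact (Scheme.Modules.restrictFunctorIsoPullback W.ι).app _ ≪≫ (Scheme.Modules.pullback W.ι).mapIso
      (((Scheme.Modules.restrictFunctorIsoPullback V.ι).app M).symm ≪≫ c ≪≫
        (Scheme.Modules.restrictFunctorIsoPullback V.ι).app F)
  exact SeesawX.rank_unique (⟨z, hzW⟩ : W.toScheme) (M := ((Scheme.Modules.pullback V.ι).obj M).restrict W.ι)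
    (fun _ => ⟨⊤, trivial, ⟨(Scheme.Modules.restrictFunctor _).mapIso eW ≪≫ QCoh.freeModRestrict _ _⟩⟩) h1

end Groth.Agent.BlowPush22

end
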