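import Groth.Agent.BlowPush22.Higher
import Groth.Agent.H9Misc.PBTwistVanish
import Groth.Agent.H26.LefAmple.Basic
import Groth.Agent.H28.DefCore
import Groth.Agent.H26.InterDiv

/-!
# Higher direct images of twists supported on the exceptional divisor
-/

set_option autoImplicit false
set_option linter.style.haveILetI false
set_option backward.isDefEq.respectTransparency false
set_option backward.isDefEq.respectTransparency.types false
set_option maxHeartbeats 800000

universe u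

open CategoryTheory CategoryTheory.Limits AlgebraicGeometry TopologicalSpace Opposite

noncomputable section

namespace Groth.Agent.BlowPush22

open Groth.Agent

/-- Restricting to a closed subscheme is tensoring with its structure sheaf. -/
theorem nonempty_pushPull {P X : Scheme.{u}} (ι : P ⟶ X) [IsClosedImmersion ι] {F : X.Modules}
    (hF : FlatMod.IsFinLocFree F) :
    Nonempty ((Scheme.Modules.pushforward ι).obj ((Scheme.Modules.pullback ι).obj F) ≅
      CohB1.tensorMod F (ClSub.quotMod ι.ker)) := by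
  haveI : HasInjectiveResolutions P.Modules := KFlatLib.hasInjectiveResolutions_modules
  haveI := SpObjSS.enoughInjectives_of_hasInjectiveResolutions (C := P.Modules)
  haveI := QCoh.preservesFiniteLimits_push ι
  obtain ⟨e₀⟩ := S0927.result ι (Coh.structureModule P) F hF 0
  let z := (Scheme.Modules.pushforward ι).rightDerivedZeroIsoSelf
  obtain ⟨eu⟩ := H23.PicMul.unit ((Scheme.Modules.pullback ι).obj F)
  obtain ⟨eQ⟩ := DivisorExt.nonempty_quotMod_iso ι
  exact ⟨((DCoh.tensorBi.obj F).mapIso (eQ ≪≫ (z.app _).symm) ≪≫ e₀ ≪≫ z.app _ ≪≫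
    (Scheme.Modules.pushforward ι).mapIso eu).symm⟩

/-- The two presentations of the restriction agree. -/
theorem nonempty_pushPull_congr {P Q X : Scheme.{u}} (ι : P ⟶ X) [IsClosedImmersion ι] (κ : Q ⟶ X)
    [IsClosedImmersion κ] (h : ι.ker = κ.ker) {F : X.Modules} (hF : FlatMod.IsFinLocFree F) :
    Nonempty ((Scheme.Modules.pushforward ι).obj ((Scheme.Modules.pullback ι).obj F) ≅
      (Scheme.Modules.pushforward κ).obj ((Scheme.Modules.pullback κ).obj F)) := by
  obtain ⟨e₁⟩ := nonempty_pushPull ι hF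
  obtain ⟨e₂⟩ := nonempty_pushPull κ hF
  rw [h] at e₁
  exact ⟨e₁ ≪≫ e₂.symm⟩

/-- Acyclicity on the centre passes to the blow-up. -/
theorem rz_push {P S X Y : Scheme.{u}} (σ : X ⟶ Y) [IsProper σ] (i : S ⟶ Y) [IsAffineHom i]
    (ι : P ⟶ X) [IsAffineHom ι] [QuasiCompact ι] [QuasiSeparated ι] (ψ : P ⟶ S) [QuasiCompact ψ] [QuasiSeparated ψ]
    (w : ι ≫ σ = ψ ≫ i) {N : P.Modules} (hN : Coh.IsQCoh N) (q : ℕ) (h : H28.RKoszul.RZ ψ N (q + 1)) :
    H28.RKoszul.RZ σ ((Scheme.Modules.pushforward ι).obj N) (q + 1) := by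
  haveI : HasInjectiveResolutions X.Modules := KFlatLib.hasInjectiveResolutions_modules
  refine H9Misc.RpushZero.isZero_RpushAb σ (QCoh.isQCoh_pushforward ι hN) (q + 1) fun W hW => ?_
  refine H28.BlowHH.hh_affine_push ι hN (σ ⁻¹ᵁ W) (q + 1) ?_
  have hkey : ι ⁻¹ᵁ (σ ⁻¹ᵁ W) = ψ ⁻¹ᵁ (i ⁻¹ᵁ W) := by
    rw [← Scheme.Hom.comp_preimage, w, Scheme.Hom.comp_preimage]
  rw [hkey]
  exact H28.BlowHH.hh_of_rz ψ hN q h (hW.preimage i)

variable {S Y X : Scheme.{u}} [IsLocallyNoetherian Y] (i : S ⟶ Y) [IsClosedImmersion i] (σ : X ⟶ Y) [IsProper σ]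

theorem regular_of_regImm {d : ℕ} (hi : RegImm.IsRegularImmersionOfCodim .regular d i) :
    Mor2.IsRegularClosedImmersion i := ⟨inferInstance, fun z => by
  obtain ⟨U, hzU, hcl, rs, -, hr, hk⟩ := hi.2 z
  exact ⟨U.1, U.2, hzU, rs, hr, by rw [Scheme.Hom.ker_apply]; exact hk⟩⟩

theorem rank_conormal {d : ℕ} (hi : RegImm.IsRegularImmersionOfCodim .regular d i) :
    FlatMod.IsFinLocFreeOfRank d (Omega.conormal i) :=
  H28.PBSect.rank_conormal_of_local i fun z => by
    obtain ⟨U, hzU, hcl, rs, hl, hr, hk⟩ := hi.2 z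
    exact ⟨U.1, U.2, hzU, rs, hl, hr, by rw [Scheme.Hom.ker_apply]; exact hk⟩

/-- The restriction of the inverse of the exceptional ideal is acyclic. -/
theorem rz_inverse {d : ℕ} (hd : 2 ≤ d) (hi : RegImm.IsRegularImmersionOfCodim .regular d i)
    (hσ : BlowUp.IsBlowUp σ i.ker) {L : X.Modules}
    (hL : ClSub.IsInverseOf L (ClSub.idealMod (BlowUp.exceptional σ i.ker))) (p : ℕ) (hp : 1 ≤ p) :
    H28.RKoszul.RZ σ ((Scheme.Modules.pushforward (pullback.fst σ i)).obj
      ((Scheme.Modules.pullback (pullback.fst σ i)).obj L)) p := by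
  let ι : pullback σ i ⟶ X := pullback.fst σ i
  let ψ : pullback σ i ⟶ S := pullback.snd σ i
  have hsq : IsPullback ι ψ σ i := IsPullback.of_hasPullback σ i
  haveI : IsClosedImmersion ι := inferInstanceAs (IsClosedImmersion (pullback.fst σ i))
  haveI : IsProper ψ := inferInstanceAs (IsProper (pullback.snd σ i))
  have hker : ι.ker = BlowUp.exceptional σ i.ker := H28.TorPull.ker_eq hsq
  obtain ⟨φ, -, hPB⟩ := H28.ExcBundle.exists_isProjBundle (regular_of_regImm i hi) (by omega : 1 ≤ d)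
    (rank_conormal i hi) hσ hsq
  obtain ⟨r, rfl⟩ : ∃ r, d = r + 1 := ⟨d - 1, by omega⟩
  rw [← hker] at hL
  obtain ⟨e⟩ := hL
  obtain ⟨eI⟩ := H23.PicMul.pull ι L (ClSub.idealMod ι.ker)
  obtain ⟨eO⟩ := PicClLib.nonempty_pullback_structureModule ι
  have hL' : ClSub.IsInverseOf ((Scheme.Modules.pullback ι).obj L) (Omega.conormal ι) :=
    ⟨eI.symm ≪≫ (Scheme.Modules.pullback ι).mapIso e ≪≫ eO⟩
  have h1 := (H9Misc.PBTwistVanish.main hPB (rank_conormal i hi) hL').2 1 p le_rfl (by omega)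
  obtain ⟨q, rfl⟩ : ∃ q, p = q + 1 := Nat.exists_eq_add_of_le' hp
  refine rz_push σ i ι ψ hsq.w ?_ q (H28.RKoszul.rz_of_iso ψ (KFlatLib.structureTensorIso _) _ h1)
  have hinv : PicF.IsInvertible L := (CurveOnSurf.isInvertible_of_inverse
    (H26.IdealCl.isInvertible_idealMod (hker.symm ▸ hσ.1)) ⟨e⟩).1
  exact QCoh.isQCoh_pullback ι (QCoh.isQCoh_of_isFinLocFree (H23.PullPush.isFinLocFree_of_isInvertible hinv))

/-- Powers of the exceptional ideal. -/
theorem rz_pow {d : ℕ} (hd : 1 ≤ d) (hi : RegImm.IsRegularImmersionOfCodim .regular d i)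
    (hσ : BlowUp.IsBlowUp σ i.ker) (m : ℕ) (p : ℕ) (hp : 1 ≤ p) :
    H28.RKoszul.RZ σ (CohB1.tensorPow (ClSub.idealMod (BlowUp.exceptional σ i.ker)) m) p := by
  let I := BlowUp.exceptional σ i.ker
  have hI : PicF.IsInvertible (ClSub.idealMod I) := H26.IdealCl.isInvertible_idealMod hσ.1
  refine H28.RzCover.isZero_RpushAb_of_cover σ
    (ProjUPX.isQCoh_of_isInvertible (InvX.isInvertible_tensorPow hI m))
    {W : Y.affineOpens | ConnectedSpace ↥W.1.toScheme} (fun y => ?_) (fun W hW q => ?_) p hp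
  · obtain ⟨W, hy, hW⟩ := exists_connected_affine y
    exact ⟨W, hW, hy⟩
  haveI : ConnectedSpace ↥W.1.toScheme := hW
  haveI : IsAffine W.1.toScheme := W.2
  haveI : IsLocallyNoetherian W.1.toScheme := isLocallyNoetherian_of_isOpenImmersion W.1.ι
  haveI : AlgebraicGeometry.IsNoetherian W.1.toScheme := {}
  haveI : IsClosedImmersion (i ∣_ W.1) := IsZariskiLocalAtTarget.restrict ‹IsClosedImmersion i› W.1
  haveI : IsProper (σ ∣_ W.1) := IsZariskiLocalAtTarget.restrict ‹IsProper σ› W.1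
  have hreg : Mor2.IsRegularClosedImmersion (i ∣_ W.1) := ⟨inferInstance, fun z => by
    obtain ⟨V, hV, hz, rs, -, hr, hk⟩ := local_data i d hi W.1 z
    exact ⟨V, hV, hz, rs, hr, hk⟩⟩
  have hC : FlatMod.IsFinLocFreeOfRank d (Omega.conormal (i ∣_ W.1)) := S13313.rank_conormal_restrict i d hi W.1
  have hkW : (i ∣_ W.1).ker = i.ker.comap W.1.ι := H28.TorPull.ker_eq (isPullback_morphismRestrict i W.1)
  have hb : BlowUp.IsBlowUp (σ ∣_ W.1) (i ∣_ W.1).ker := by
    rw [hkW]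
    exact BlowUpLib.isBlowUp_of_isPullback (isPullback_morphismRestrict σ W.1) hσ
  let Z := σ ⁻¹ᵁ W.1
  have hrz := H28.BlowVan.van (H28.QProjEnough.enough_affine W.1.toScheme) (i ∣_ W.1) hreg hd hC (σ ∣_ W.1) hb m
    (q + 1) (by omega)
  have hIW : BlowUp.exceptional (σ ∣_ W.1) (i ∣_ W.1).ker = I.comap Z.ι := by
    show (i ∣_ W.1).ker.comap (σ ∣_ W.1) = (i.ker.comap σ).comap Z.ι
    rw [hkW, ← Scheme.IdealSheafData.comap_comp, ← Scheme.IdealSheafData.comap_comp, morphismRestrict_ι]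
  have hIZ : PicF.IsInvertible (ClSub.idealMod (BlowUp.exceptional (σ ∣_ W.1) (i ∣_ W.1).ker)) :=
    H26.IdealCl.isInvertible_idealMod hb.1
  have hq := ProjUPX.isQCoh_of_isInvertible (InvX.isInvertible_tensorPow hIZ m)
  have h1 := H28.BlowHH.hh_of_rz (σ ∣_ W.1) hq q hrz (isAffineOpen_top W.1.toScheme)
  haveI : IsIso ((σ ∣_ W.1) ⁻¹ᵁ (⊤ : W.1.toScheme.Opens)).ι := H28.BlowHH.isIso_ι_top _
  have h2 := H28.BlowHH.hh_iso ((σ ∣_ W.1) ⁻¹ᵁ (⊤ : W.1.toScheme.Opens)).ι hq (q + 1)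
    (QCoh.subsingleton_HH_of_iso ((Scheme.Modules.restrictFunctorIsoPullback _).app _) (q + 1) h1)
  obtain ⟨e₁⟩ := AmpleVan.RelVanish.pullback_tensorPow Z.ι (ClSub.idealMod I) m
  have hI' : BlowUp.IsEffCartierIdeal (I.comap Z.ι) := hIW ▸ hb.1
  obtain ⟨e₂⟩ := H26.InterDiv.nonempty_pullback_idealMod Z.ι I hσ.1 hI'
  obtain ⟨e₃⟩ := AmpleVan.RelVanish.tensorPow_congr (e₂ ≪≫ eqToIso (congrArg ClSub.idealMod hIW.symm)) m
  exact QCoh.subsingleton_HH_of_iso
    (((Scheme.Modules.restrictFunctorIsoPullback Z.ι).app _ ≪≫ e₁ ≪≫ e₃).symm) (q + 1) h2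

/-- Tensor powers of an invertible ideal are the ideals of its powers. -/
theorem nonempty_idealMod_pow {Z : Scheme.{u}} {I : Z.IdealSheafData} (hI : PicF.IsInvertible (ClSub.idealMod I)) :
    ∀ n : ℕ, Nonempty (ClSub.idealMod (I ^ n) ≅ CohB1.tensorPow (ClSub.idealMod I) n) := by
  intro n
  cases n with
  | zero =>
    rw [pow_zero]
    exact H28.DefCore.idealMod_top Z
  | succ n =>
    letI := H23.PicMul.clMonoid Z
    exact H23.PicMul.cl_eq_iff.1
      ((H26.LefAmple.cl_idealMod_pow hI n).2.trans (H23.PicMul.cl_tensorPow _ (n + 1)).symm)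

omit [IsLocallyNoetherian Y] [IsProper σ] in
/-- Acyclicity of a restriction from that of two twists. -/
theorem rz_restrict_of_twists (I : X.IdealSheafData) {F G : X.Modules} (hF : PicF.IsInvertible F) (e : G ≅ F) (p : ℕ)
    (h₀ : H28.RKoszul.RZ σ F p) (h₁ : H28.RKoszul.RZ σ (CohB1.tensorMod F (ClSub.idealMod I)) (p + 1)) :
    H28.RKoszul.RZ σ ((Scheme.Modules.pushforward I.subschemeι).obj
      ((Scheme.Modules.pullback I.subschemeι).obj G)) p := by
  haveI := H26.IdealCl.isEquivalence_tensor hF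
  have hS := (DivisorExt.ideal_shortExact I).map_of_exact (DCoh.tensorBi.obj F)
  obtain ⟨eu⟩ := H23.PicMul.unit F
  have h₃ : H28.RKoszul.RZ σ (CohB1.tensorMod F (ClSub.quotMod I)) p :=
    H28.RKoszul.rz_quot σ hS p (H28.RKoszul.rz_of_iso σ eu.symm p h₀) h₁
  obtain ⟨eP⟩ := nonempty_pushPull I.subschemeι (H23.PullPush.isFinLocFree_of_isInvertible hF)
  rw [Scheme.IdealSheafData.ker_subschemeι] at eP
  exact H28.RKoszul.rz_of_iso σ (eP.symm ≪≫
    (Scheme.Modules.pushforward I.subschemeι).mapIso ((Scheme.Modules.pullback I.subschemeι).mapIso e.symm)) p h₃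

/-- The restricted powers of the exceptional ideal are acyclic. -/
theorem rz_restrict_pow {d : ℕ} (hd : 1 ≤ d) (hi : RegImm.IsRegularImmersionOfCodim .regular d i)
    (hσ : BlowUp.IsBlowUp σ i.ker) (n : ℕ) (p : ℕ) (hp : 1 ≤ p) :
    H28.RKoszul.RZ σ ((Scheme.Modules.pushforward (BlowUp.exceptional σ i.ker).subschemeι).obj
      ((Scheme.Modules.pullback (BlowUp.exceptional σ i.ker).subschemeι).obj
        (ClSub.idealMod ((BlowUp.exceptional σ i.ker) ^ n)))) p := by
  have hI : PicF.IsInvertible (ClSub.idealMod (BlowUp.exceptional σ i.ker)) :=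
    H26.IdealCl.isInvertible_idealMod hσ.1
  obtain ⟨en⟩ := nonempty_idealMod_pow hI n
  exact rz_restrict_of_twists σ _ (InvX.isInvertible_tensorPow hI n) en p (rz_pow i σ hd hi hσ n p hp)
    (rz_pow i σ hd hi hσ (n + 1) (p + 1) (by omega))

/-- The restricted inverse of the exceptional ideal is acyclic. -/
theorem rz_restrict_inverse {d : ℕ} (hd : 2 ≤ d) (hi : RegImm.IsRegularImmersionOfCodim .regular d i)
    (hσ : BlowUp.IsBlowUp σ i.ker) {L : X.Modules}
    (hL : ClSub.IsInverseOf L (ClSub.idealMod (BlowUp.exceptional σ i.ker))) (p : ℕ) (hp : 1 ≤ p) :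
    H28.RKoszul.RZ σ ((Scheme.Modules.pushforward (BlowUp.exceptional σ i.ker).subschemeι).obj
      ((Scheme.Modules.pullback (BlowUp.exceptional σ i.ker).subschemeι).obj L)) p := by
  have hinv : PicF.IsInvertible L :=
    (CurveOnSurf.isInvertible_of_inverse (H26.IdealCl.isInvertible_idealMod hσ.1) hL).1
  haveI : IsClosedImmersion (pullback.fst σ i) := inferInstance
  have hker : (BlowUp.exceptional σ i.ker).subschemeι.ker = (pullback.fst σ i).ker :=
    (Scheme.IdealSheafData.ker_subschemeι _).trans (H28.TorPull.ker_eq (IsPullback.of_hasPullback σ i)).symm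
  obtain ⟨e⟩ := nonempty_pushPull_congr (BlowUp.exceptional σ i.ker).subschemeι (pullback.fst σ i) hker
    (H23.PullPush.isFinLocFree_of_isInvertible hinv)
  exact H28.RKoszul.rz_of_iso σ e.symm p (rz_inverse i σ hd hi hσ hL p hp)

end Groth.Agent.BlowPush22

end
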