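import Groth.Agent.BlowPointH1.Main
import Groth.Agent.AmpleFam17.Basic
import Groth.Agent.AmpleVan.Uniform
import Groth.Agent.AmpleX.Pow
import Groth.Agent.AmpleX.Generated
import Groth.Agent.BiRegQ.Retract
import Groth.Agent.QCoh.Bound
import Groth.Agent.BlowUpLib.Glue
import Groth.Agent.Lib.BlowUpInt
import Groth.Agent.H26.InterDiv

/-!
# Blow-ups of an affine integral scheme in an ideal with two generators
-/

set_option autoImplicit false
set_option linter.style.haveILetI false
set_option backward.isDefEq.respectTransparency false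
set_option backward.isDefEq.respectTransparency.types false
set_option maxHeartbeats 800000

universe u

open CategoryTheory CategoryTheory.Limits AlgebraicGeometry TopologicalSpace Opposite

noncomputable section

namespace Groth.Agent.BlowPush22

open Groth.Agent BlowUpLib

/-- A blow-up of an affine integral Noetherian scheme in an ideal generated by two nonzero functions. -/
structure TwoGen {X Y : Scheme.{u}} (σ : X ⟶ Y) (C : Y.IdealSheafData) : Prop where
  aff : IsAffine Y
  int : IsIntegral Y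
  noeth : IsLocallyNoetherian Y
  blow : BlowUp.IsBlowUp σ C
  gens : ∃ U : Y.affineOpens, U.1 = ⊤ ∧
    ∃ a c : Γ(Y, U.1), a ≠ 0 ∧ c ≠ 0 ∧ C.ideal U = Ideal.span {a, c}

namespace TwoGen

variable {X Y : Scheme.{u}} {σ : X ⟶ Y} {C : Y.IdealSheafData} (h : TwoGen σ C)

include h

theorem isProper : IsProper σ := by
  haveI := h.noeth
  exact BlowUpLib.isProper_of_isBlowUp C h.blow fun U => by
    haveI := IsLocallyNoetherian.component_noetherian U
    exact IsNoetherian.noetherian _

/-- The model of the blow-up. -/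
theorem exists_model : ∃ (A : Type u) (_ : CommRing A) (_ : IsDomain A) (_ : IsNoetherianRing A) (a c : A)
    (_ : a ≠ 0) (_ : c ≠ 0) (j : Y ⟶ Spec (CommRingCat.of A)) (_ : IsIso j)
    (e : localBlowUp (Ideal.span {a, c}) ≅ X), e.hom ≫ σ ≫ j = toBase (Ideal.span {a, c}) := by
  haveI := h.aff
  haveI := h.int
  haveI := h.noeth
  obtain ⟨⟨U, hU⟩, hUtop, a, c, ha, hc, hgen⟩ := h.gens
  subst hUtop
  haveI : IsNoetherianRing Γ(Y, ⊤) := IsLocallyNoetherian.component_noetherian ⟨⊤, hU⟩
  haveI : Nonempty ((⊤ : Y.Opens) : Scheme.{u}) := ⟨⟨Classical.arbitrary Y, trivial⟩⟩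
  have h1 : C = (centre (Ideal.span {a, c})).comap Y.isoSpec.hom := by
    have e := comap_fromSpec C ⟨⊤, hU⟩
    rw [hgen] at e
    have hf : hU.fromSpec = Y.isoSpec.inv := IsAffineOpen.fromSpec_top
    rw [← e, ← Scheme.IdealSheafData.comap_comp, hf, Iso.hom_inv_id, Scheme.IdealSheafData.comap_id]
  have hb : BlowUp.IsBlowUp (σ ≫ Y.isoSpec.hom) (centre (Ideal.span {a, c})) :=
    isBlowUp_comp_iso _ (h1 ▸ h.blow)
  obtain ⟨e, he⟩ := exists_iso (isBlowUp_local (Ideal.span {a, c})) hb
  exact ⟨Γ(Y, ⊤), inferInstance, inferInstance, inferInstance, a, c, ha, hc, Y.isoSpec.hom, inferInstance, e, he⟩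

theorem isIntegral : IsIntegral X := by
  haveI := h.int
  rcases Lib.BlowUpInt.isEmpty_or_birational h.blow with hX | ⟨hX, -, -⟩
  · obtain ⟨A, _, _, _, a, c, ha, -, j, _, e, -⟩ := h.exists_model
    exfalso
    let a' : (Ideal.span {a, c} : Ideal A) := ⟨a, Ideal.subset_span (by simp)⟩
    haveI : Nontrivial (Localization.Away (a' : A)) :=
      (IsLocalization.injective (Localization.Away (a : A))
        (powers_le_nonZeroDivisors_of_noZeroDivisors ha)).nontrivial
    obtain ⟨P⟩ : Nonempty (PrimeSpectrum (BlowUp.affineAlgebra A (Ideal.span {a, c}) (a' : A))) := inferInstance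
    exact hX.elim (e.hom (chart _ a' P))
  · exact hX

theorem isSeparated : X.IsSeparated := by
  haveI := h.aff
  haveI := h.isProper
  exact ⟨by rw [show terminal.from X = σ ≫ terminal.from _ from terminal.hom_ext _ _]; infer_instance⟩

theorem compactSpace : CompactSpace X := by
  haveI := h.aff
  haveI := h.isProper
  exact QuasiCompact.compactSpace_of_compactSpace σ

theorem isLocallyNoetherian : IsLocallyNoetherian X := by
  haveI := h.noeth
  haveI := h.isProper
  exact LocallyOfFiniteType.isLocallyNoetherian σ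

/-- Cohomology in degree at least two vanishes. -/
theorem hh_two {M : X.Modules} (hM : Coh.IsQCoh M) (n : ℕ) (hn : 2 ≤ n) : Subsingleton (Coh.HH X M n) := by
  obtain ⟨A, _, _, _, a, c, ha, hc, j, _, e, he⟩ := h.exists_model
  let I : Ideal A := Ideal.span {a, c}
  let a' : I := ⟨a, Ideal.subset_span (by simp)⟩
  let c' : I := ⟨c, Ideal.subset_span (by simp)⟩
  haveI := h.isSeparated
  refine QCoh.HH_subsingleton_of_cover 2 ![BlowPointH1.chartOpen e a', BlowPointH1.chartOpen e c']
    (fun i => by fin_cases i <;> exact BlowPointH1.isAffineOpen_chartOpen e _) ?_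
    (fun V W hV hW => hV.inf hW) hM n hn
  refine top_le_iff.1 fun x _ => ?_
  obtain ⟨z, rfl⟩ := e.hom.surjective x
  obtain ⟨y, hy⟩ := chart_covers I z
  by_contra hx
  simp only [Opens.mem_iSup, Fin.exists_fin_two, Matrix.cons_val_zero, Matrix.cons_val_one, not_or] at hx
  have hmem : ∀ d : I, e.hom z ∉ BlowPointH1.chartOpen e d → gen I d ∈ z.asHomogeneousIdeal.toIdeal := by
    intro d hd
    by_contra hn
    refine hd ?_
    have : z ∈ (chart I d).opensRange := by rw [opensRange_chart]; exact hn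
    obtain ⟨w, rfl⟩ := this
    exact ⟨w, trivial, rfl⟩
  rw [opensRange_chart] at hy
  refine hy (RegBlow6.gen_linear_mem I z.asHomogeneousIdeal.toIdeal ![a, c]
    (by simp [I, Set.pair_comm]) (fun k => ?_) y)
  fin_cases k
  · exact ⟨a'.2, hmem a' hx.1⟩
  · exact ⟨c'.2, hmem c' hx.2⟩

/-- `H¹` of a globally generated module vanishes. -/
theorem hh_one {M : X.Modules} (hM : Coh.IsQCoh M) (hgg : Curv2.IsGloballyGenerated M) :
    Subsingleton (Coh.HH X M 1) := by
  obtain ⟨A, _, _, _, a, c, ha, hc, j, _, e, he⟩ := h.exists_model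
  haveI := h.isIntegral
  haveI := h.isProper
  haveI : IsSeparated (σ ≫ j) := inferInstance
  exact BlowPointH1.subsingleton_HH_one e (σ ≫ j) ⟨a, Ideal.subset_span (by simp)⟩
    ⟨c, Ideal.subset_span (by simp)⟩ ha hc rfl he hM hgg

theorem isInvertible : PicF.IsInvertible (ClSub.idealMod (BlowUp.exceptional σ C)) :=
  (S8914.result _).2 h.blow.1

theorem exists_section_affine (x : X) : ∃ a : Γ(ClSub.idealMod (BlowUp.exceptional σ C), ⊤),
    x ∈ AmpleX.locus a ∧ IsAffineOpen (AmpleX.locus a) := by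
  haveI := h.aff
  exact AmpleFam17.exists_chart_section h.blow ⟨⊤, isAffineOpen_top Y⟩ x trivial

/-- The exceptional ideal is ample. -/
theorem isAmple : CohB1.IsAmple (ClSub.idealMod (BlowUp.exceptional σ C)) := by
  refine ⟨h.isInvertible, h.compactSpace, fun x => ?_⟩
  obtain ⟨a, hx, ha⟩ := h.exists_section_affine x
  let ε : ClSub.idealMod (BlowUp.exceptional σ C) ≅ CohB1.tensorPow (ClSub.idealMod (BlowUp.exceptional σ C)) (0 + 1) :=
    (KFlatLib.structureTensorIso _).symm
  refine ⟨0, InvX.ofSect a ≫ ε.hom, ?_⟩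
  rw [InvX.genLocus_comp_iso, AmpleX.genLocus_eq_locus, InvX.one_ofSect]
  exact ⟨hx, ha⟩

/-- The exceptional ideal is generated by global sections. -/
theorem gg_ideal : Curv2.IsGloballyGenerated (ClSub.idealMod (BlowUp.exceptional σ C)) := by
  choose a hx ha using h.exists_section_affine
  refine InvX.isGloballyGenerated_of_generated (ι := X) (s := a) fun x => ?_
  have hf := AmpleX.isFrame_res_locus (a x)
  refine eq_top_iff.2 fun t _ => ?_
  obtain ⟨r, rfl⟩ := (hf.germ_bijective (hx x)).2 t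
  refine Submodule.smul_mem _ _ (Submodule.subset_span ⟨x, ?_⟩)
  exact (InvX.germ_res' (AmpleX.locus_le (a x)) (hx x) (a x)).symm

theorem gg_pow : ∀ n, Curv2.IsGloballyGenerated (CohB1.tensorPow (ClSub.idealMod (BlowUp.exceptional σ C)) n)
  | 0 => BiRegQ.gg_structureModule
  | n + 1 => BiRegQ.gg_tensor (gg_pow n) h.gg_ideal

/-- High twists of a coherent module are acyclic. -/
theorem exists_vanishing {M : X.Modules} (hM : Coh.IsCoh M) : ∃ n₀, ∀ n, n₀ ≤ n → ∀ q,
    Subsingleton (Coh.HH X (CohB1.tensorMod M (CohB1.tensorPow (ClSub.idealMod (BlowUp.exceptional σ C)) n)) (q + 1)) := by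
  haveI := h.aff
  haveI := h.noeth
  haveI := h.isProper
  haveI : IsNoetherianRing Γ(Y, ⊤) := IsLocallyNoetherian.component_noetherian ⟨⊤, isAffineOpen_top Y⟩
  letI : X.Over (Spec (CommRingCat.of Γ(Y, ⊤))) := ⟨σ ≫ Y.isoSpec.hom⟩
  haveI : IsProper (X ↘ Spec (CommRingCat.of Γ(Y, ⊤))) := inferInstanceAs (IsProper (σ ≫ Y.isoSpec.hom))
  exact AmpleVan.exists_vanishing (A := Γ(Y, ⊤)) h.isAmple hM

end TwoGen

end Groth.Agent.BlowPush22

end
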